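import Cfsg.Agent.Chev.Tab.B2Aux
import Cfsg.Agent.Chev.Root

/-! Root coordinates of type B2 (generated by tools/gen_all.py). -/

set_option autoImplicit false
set_option maxRecDepth 1000000

namespace Cfsg.Agent.Chev
open Cfsg.Lie

def rauxB2 : RAux where
  rcN := fun r j => Nat.land (Nat.shiftRight 0x9a99899878877776 (Nat.mul 4 (Nat.add (Nat.mul r 2) j))) 15

theorem cEntB2_0 : allRange (chkEnt pkB2 rauxB2) 0 8 = true := by decide +kernel

theorem cEntB2 : ∀ r < 8, chkEnt pkB2 rauxB2 r = true := by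
  intro r hr
  exact allRange_spec cEntB2_0 r (by omega) (by omega)

theorem chkRootB2 : chkRoot pkB2 nauxB2 rauxB2 = true := by decide +kernel

def goodB2 : Good chevB2 :=
  Good.ofChk fastB2 nauxB2 rauxB2 chkAuxB2 chkAux2B2 cEntB2 chkRootB2

end Cfsg.Agent.Chev
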