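import Cfsg.Agent.Chev.Tab.D4Aux
import Cfsg.Agent.Chev.Root

/-! Root coordinates of type D4 (generated by tools/gen_all.py). -/

set_option autoImplicit false
set_option maxRecDepth 1000000

namespace Cfsg.Agent.Chev
open Cfsg.Lie

def rauxD4 : RAux where
  rcN := fun r j => Nat.land (Nat.shiftRight 0x99a999998999989988998889999889989898889889889888788887888878787887787778888788777877877777777767 (Nat.mul 4 (Nat.add (Nat.mul r 4) j))) 15

theorem cEntD4_0 : allRange (chkEnt pkD4 rauxD4) 0 24 = true := by decide +kernel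

theorem cEntD4 : ∀ r < 24, chkEnt pkD4 rauxD4 r = true := by
  intro r hr
  exact allRange_spec cEntD4_0 r (by omega) (by omega)

theorem chkRootD4 : chkRoot pkD4 nauxD4 rauxD4 = true := by decide +kernel

def goodD4 : Good chevD4 :=
  Good.ofChk fastD4 nauxD4 rauxD4 chkAuxD4 chkAux2D4 cEntD4 chkRootD4

end Cfsg.Agent.Chev
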