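import Cfsg.Agent.Chev.Tab.E6Aux
import Cfsg.Agent.Chev.Root

/-! Root coordinates of type E6 (generated by tools/gen_all.py). -/

set_option autoImplicit false
set_option maxRecDepth 1000000

namespace Cfsg.Agent.Chev
open Cfsg.Lie

def rauxE6 : RAux where
  rcN := fun r j => Nat.land (Nat.shiftRight 0x9abaa99aba999aaa9999aa9989aa999aa99999a99989a9999999998999998899999999898999898899898889898888899aa99899a99889a998999998899998889998999898899898889898888898999988899988889988888988999888899888889888998888898888988888788888878888778888887888877888777888888788887788877788777788888878887878877878777878887778877778777778876778776778766778888887888787887787877787777787887777877777777777876777776777766777876677776677766677765677765667 (Nat.mul 4 (Nat.add (Nat.mul r 6) j))) 15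

theorem cEntE6_0 : allRange (chkEnt pkE6 rauxE6) 0 66 = true := by decide +kernel
theorem cEntE6_1 : allRange (chkEnt pkE6 rauxE6) 66 6 = true := by decide +kernel

theorem cEntE6 : ∀ r < 72, chkEnt pkE6 rauxE6 r = true := by
  intro r hr
  rcases Nat.lt_or_ge r 66 with h0 | h0
  · exact allRange_spec cEntE6_0 r (by omega) (by omega)
  exact allRange_spec cEntE6_1 r (by omega) (by omega)

theorem chkRootE6 : chkRoot pkE6 nauxE6 rauxE6 = true := by decide +kernel

def goodE6 : Good chevE6 :=
  Good.ofChk fastE6 nauxE6 rauxE6 chkAuxE6 chkAux2E6 cEntE6 chkRootE6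

end Cfsg.Agent.Chev
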