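import Cfsg.Agent.Chev.Tab.E7Aux
import Cfsg.Agent.Chev.Root

/-! Root coordinates of type E7 (generated by tools/gen_all.py). -/

set_option autoImplicit false
set_option maxRecDepth 1000000

namespace Cfsg.Agent.Chev
open Cfsg.Lie

def rauxE7 : RAux where
  rcN := fun r j => Nat.land (Nat.shiftRight 0x9abcbaa9abcba99abcaa99abbaa99aabaa999abaa989abaa99abba999aaba9999aba9989aba999aaaa9999aaa9989aaa99999aa99899aa99889aa999aaa99999aa99989aa999999a999899a999889a99999999998999999889999988899999999989899998988999898889989888898988888899aaa99899aa99889aa998999a998899a998889a998999999889999988899998888999899998988999898889989888898988888898999998889999888899988888998888889889999888899988888998888889888999888889988888898888998888889888889888888788888887888887788888887888887788887778888888788888778888777888777788888887888887788887778887777887777788888887888878788877878877787877778788887778887777887777787777778887677887767787776778876677877667787666778888888788887878887787887778787777877777787888777788777778777777777777788767778776777777677787667777766777766677788766778776677777667787666777766677766667787656777765677766567776556778765667776566776656677655667765466776545677654566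 (Nat.mul 4 (Nat.add (Nat.mul r 7) j))) 15

theorem cEntE7_0 : allRange (chkEnt pkE7 rauxE7) 0 38 = true := by decide +kernel
theorem cEntE7_1 : allRange (chkEnt pkE7 rauxE7) 38 38 = true := by decide +kernel
theorem cEntE7_2 : allRange (chkEnt pkE7 rauxE7) 76 38 = true := by decide +kernel
theorem cEntE7_3 : allRange (chkEnt pkE7 rauxE7) 114 12 = true := by decide +kernel

theorem cEntE7 : ∀ r < 126, chkEnt pkE7 rauxE7 r = true := by
  intro r hr
  rcases Nat.lt_or_ge r 38 with h0 | h0
  · exact allRange_spec cEntE7_0 r (by omega) (by omega)
  rcases Nat.lt_or_ge r 76 with h1 | h1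
  · exact allRange_spec cEntE7_1 r (by omega) (by omega)
  rcases Nat.lt_or_ge r 114 with h2 | h2
  · exact allRange_spec cEntE7_2 r (by omega) (by omega)
  exact allRange_spec cEntE7_3 r (by omega) (by omega)

theorem chkRootE7 : chkRoot pkE7 nauxE7 rauxE7 = true := by decide +kernel

def goodE7 : Good chevE7 :=
  Good.ofChk fastE7 nauxE7 rauxE7 chkAuxE7 chkAux2E7 cEntE7 chkRootE7

end Cfsg.Agent.Chev
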