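import Cfsg.Agent.Chev.Tab.E8Aux
import Cfsg.Agent.Chev.Root

/-! Root coordinates of type E8 (generated by tools/gen_all.py). -/

set_option autoImplicit false
set_option maxRecDepth 1000000

namespace Cfsg.Agent.Chev
open Cfsg.Lie

def rauxE8 : RAux where
  rcN := fun r j => Nat.land (Nat.shiftRight 0xabcdecba9bcdecba9acdecba9abdecba9abcecba9abcdcba9abcdbba9abcdcaa9abcdbaa9abccbaa9abbcbaa9aabcbaa99abcbaa89abcbaa9abcdbb99abcdba99abccba99abbcba99aabcba999abcba989abcba99abccaa99abbcaa99aabcaa999abcaa989abcaa99abbbaa99aabbaa999abbaa989abbaa99aaabaa999aabaa989aabaa9999abaa9899abaa9889abaa99abbba999aabba9999abba9989abba999aaaba9999aaba9989aaba99999aba99899aba99889aba999aaaaa9999aaaa9989aaaa99999aaa99899aaa99889aaa999999aa998999aa998899aa998889aa999aaaa99999aaa99989aaa999999aa999899aa999889aa9999999a9998999a9998899a9998889a9999999999989999999889999998889999988889999999999898999998988999989888999898888998988888989888888899aaaa99899aaa99889aaa998999aa998899aa998889aa9989999a9988999a9988899a9988889a9989999999889999998889999988889999888889998999998988999989888999898888998988888989888888898999999888999998888999988888999888888998888888988999998888999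988888999888888998888888988899998888899988888899888888898888999888888998888888988888998888888988888898888888788888888788888877888888887888888778888877788888888788888877888887778888777788888888788888877888887778888777788877777888888887888888778888877788887777888777778877777788888888788888787888877878887778788777787877777878888877788887777888777778877777787777777888876778887767788777677877776778887667788776677877766778876667787766677876666778888888878888878788887787888777878877778787777787777777878888777788877777887777778777777777777777888767778877677787776777777767778876677787766777777667778766677777666777766667778887667788776677877766777777667788766677877666777776667787666677776666777666667788765677877656777776567787665677776656777666567787655677776556777665567776555677887656678776566777765667876656677766566776665667876556677765566776655667765556678765466777654667766546677655466776544667876545677765456776654567765545677654456776543567765435578765456677654566766545667655456676544566765435667654346676543556765434567654245676532456764324567543245665432456 (Nat.mul 4 (Nat.add (Nat.mul r 8) j))) 15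

theorem cEntE8_0 : allRange (chkEnt pkE8 rauxE8) 0 20 = true := by decide +kernel
theorem cEntE8_1 : allRange (chkEnt pkE8 rauxE8) 20 20 = true := by decide +kernel
theorem cEntE8_2 : allRange (chkEnt pkE8 rauxE8) 40 20 = true := by decide +kernel
theorem cEntE8_3 : allRange (chkEnt pkE8 rauxE8) 60 20 = true := by decide +kernel
theorem cEntE8_4 : allRange (chkEnt pkE8 rauxE8) 80 20 = true := by decide +kernel
theorem cEntE8_5 : allRange (chkEnt pkE8 rauxE8) 100 20 = true := by decide +kernel
theorem cEntE8_6 : allRange (chkEnt pkE8 rauxE8) 120 20 = true := by decide +kernel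
theorem cEntE8_7 : allRange (chkEnt pkE8 rauxE8) 140 20 = true := by decide +kernel
theorem cEntE8_8 : allRange (chkEnt pkE8 rauxE8) 160 20 = true := by decide +kernel
theorem cEntE8_9 : allRange (chkEnt pkE8 rauxE8) 180 20 = true := by decide +kernel
theorem cEntE8_10 : allRange (chkEnt pkE8 rauxE8) 200 20 = true := by decide +kernel
theorem cEntE8_11 : allRange (chkEnt pkE8 rauxE8) 220 20 = true := by decide +kernel

theorem cEntE8 : ∀ r < 240, chkEnt pkE8 rauxE8 r = true := by
  intro r hr
  rcases Nat.lt_or_ge r 20 with h0 | h0
  · exact allRange_spec cEntE8_0 r (by omega) (by omega)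
  rcases Nat.lt_or_ge r 40 with h1 | h1
  · exact allRange_spec cEntE8_1 r (by omega) (by omega)
  rcases Nat.lt_or_ge r 60 with h2 | h2
  · exact allRange_spec cEntE8_2 r (by omega) (by omega)
  rcases Nat.lt_or_ge r 80 with h3 | h3
  · exact allRange_spec cEntE8_3 r (by omega) (by omega)
  rcases Nat.lt_or_ge r 100 with h4 | h4
  · exact allRange_spec cEntE8_4 r (by omega) (by omega)
  rcases Nat.lt_or_ge r 120 with h5 | h5
  · exact allRange_spec cEntE8_5 r (by omega) (by omega)
  rcases Nat.lt_or_ge r 140 with h6 | h6
  · exact allRange_spec cEntE8_6 r (by omega) (by omega)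
  rcases Nat.lt_or_ge r 160 with h7 | h7
  · exact allRange_spec cEntE8_7 r (by omega) (by omega)
  rcases Nat.lt_or_ge r 180 with h8 | h8
  · exact allRange_spec cEntE8_8 r (by omega) (by omega)
  rcases Nat.lt_or_ge r 200 with h9 | h9
  · exact allRange_spec cEntE8_9 r (by omega) (by omega)
  rcases Nat.lt_or_ge r 220 with h10 | h10
  · exact allRange_spec cEntE8_10 r (by omega) (by omega)
  exact allRange_spec cEntE8_11 r (by omega) (by omega)

theorem chkRootE8 : chkRoot pkE8 nauxE8 rauxE8 = true := by decide +kernel

def goodE8 : Good chevE8 :=
  Good.ofChk fastE8 nauxE8 rauxE8 chkAuxE8 chkAux2E8 cEntE8 chkRootE8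

end Cfsg.Agent.Chev
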