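import Cfsg.Agent.Chev.Tab.F4Aux
import Cfsg.Agent.Chev.Root

/-! Root coordinates of type F4 (generated by tools/gen_all.py). -/

set_option autoImplicit false
set_option maxRecDepth 1000000

namespace Cfsg.Agent.Chev
open Cfsg.Lie

def rauxF4 : RAux where
  rcN := fun r j => Nat.land (Nat.shiftRight 0xabca9bca9aca9aba9aaa99aa89aa9ab99aa999a989a999998999889988899aa899a889a8999889988898998889889888788887887788887887787778876877687668888788778777777787677767766776578766776676667656764675466546 (Nat.mul 4 (Nat.add (Nat.mul r 4) j))) 15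

theorem cEntF4_0 : allRange (chkEnt pkF4 rauxF4) 0 48 = true := by decide +kernel

theorem cEntF4 : ∀ r < 48, chkEnt pkF4 rauxF4 r = true := by
  intro r hr
  exact allRange_spec cEntF4_0 r (by omega) (by omega)

theorem chkRootF4 : chkRoot pkF4 nauxF4 rauxF4 = true := by decide +kernel

def goodF4 : Good chevF4 :=
  Good.ofChk fastF4 nauxF4 rauxF4 chkAuxF4 chkAux2F4 cEntF4 chkRootF4

end Cfsg.Agent.Chev
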