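import Cfsg.Agent.Chev.Tab.B2Root
import Cfsg.Agent.Chev.Root2

/-! More tables of type B2 (generated by tools/gen_all.py). -/

set_option autoImplicit false
set_option maxRecDepth 1000000

namespace Cfsg.Agent.Chev
open Cfsg.Lie

def sauxB2 : SAux where
  nxt := fun r => Nat.land (Nat.shiftRight 0x1011010 (Nat.mul 4 r)) 15
  dep := fun r => Nat.land (Nat.shiftRight 0x101000001010202 (Nat.mul 8 r)) 255
  bz := fun r i => Int.subNatNat (Nat.land (Nat.shiftRight 0x81808081808181807f80807f7f817f80 (Nat.mul 8 (Nat.add (Nat.mul r 2) i))) 255) 128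
  w0 := [0, 1, 0, 1]

theorem chkSB2 : chkS pkB2 nauxB2 sauxB2 = true := by decide +kernel

theorem good2B2 : Good2 chevB2 := Good2.ofChk fastB2 nauxB2 sauxB2 goodB2 chkAuxB2 chkSB2

end Cfsg.Agent.Chev
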