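import Cfsg.Agent.Chev.Tab.D4Root
import Cfsg.Agent.Chev.Root2

/-! More tables of type D4 (generated by tools/gen_all.py). -/

set_option autoImplicit false
set_option maxRecDepth 1000000

namespace Cfsg.Agent.Chev
open Cfsg.Lie

def sauxD4 : SAux where
  nxt := fun r => Nat.land (Nat.shiftRight 0x132310323123321323013231 (Nat.mul 4 r)) 15
  dep := fun r => Nat.land (Nat.shiftRight 0x40302020100020101000000010101020203010203030405 (Nat.mul 8 r)) 255
  bz := fun r i => Int.subNatNat (Nat.land (Nat.shiftRight 0x8180808081808080808180808180808080808180808080818180808080818080818080808080818080818080818080807f808080807f808080807f807f808080807f80807f8080808080807f80807f807f808080807f80807f8080807f808080 (Nat.mul 8 (Nat.add (Nat.mul r 4) i))) 255) 128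
  w0 := [0, 1, 0, 2, 1, 0, 3, 1, 0, 2, 1, 3]

theorem chkSD4 : chkS pkD4 nauxD4 sauxD4 = true := by decide +kernel

theorem good2D4 : Good2 chevD4 := Good2.ofChk fastD4 nauxD4 sauxD4 goodD4 chkAuxD4 chkSD4

end Cfsg.Agent.Chev
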