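import Cfsg.Agent.Chev.Tab.E6Root
import Cfsg.Agent.Chev.Root2

/-! More tables of type E6 (generated by tools/gen_all.py). -/

set_option autoImplicit false
set_option maxRecDepth 1000000

namespace Cfsg.Agent.Chev
open Cfsg.Lie

def sauxE6 : SAux where
  nxt := fun r => Nat.land (Nat.shiftRight 0x134524535415432045354254315432543545545345234513452453540234514535425431 (Nat.mul 4 r)) 15
  dep := fun r => Nat.land (Nat.shiftRight 0xa0908070607060505040304030201000605040403020302010003020100020100010000010102010203010203040102030403040505060701020304050405060607080708090a0b (Nat.mul 8 r)) 255
  bz := fun r i => Int.subNatNat (Nat.land (Nat.shiftRight 0x8180808080808180808080808180808080808180808080808081808080808180808080808180808080808081808080808180808080808081808080808080818080808180808080808081808080808080818080808080808180808080808080818180808080808180808080808081808080808180808080808081808080808080818080808180808080808081808080808080818080808080808081808180808080808081808080808080818080808080808180808180808080808081808080808080818080808180808080808081808080808180808080807f8080808080807f808080807f808080808080807f808080807f808080807f80808080808080807f808080807f808080807f808080807f8080808080808080807f8080807f808080807f808080807f808080808080807f808080807f808080807f8080808080807f808080807f80808080807f808080808080808080807f8080807f808080807f808080807f808080807f808080808080807f808080807f808080807f8080808080807f808080807f80808080807f8080808080807f808080807f80808080807f80808080807f80808080807f8080808080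 (Nat.mul 8 (Nat.add (Nat.mul r 6) i))) 255) 128
  w0 := [0, 1, 2, 0, 3, 1, 2, 0, 3, 2, 4, 3, 1, 2, 0, 3, 2, 4, 3, 1, 5, 4, 3, 1, 2, 0, 3, 2, 4, 3, 1, 5, 4, 3, 2, 0]

theorem chkSE6 : chkS pkE6 nauxE6 sauxE6 = true := by decide +kernel

theorem good2E6 : Good2 chevE6 := Good2.ofChk fastE6 nauxE6 sauxE6 goodE6 chkAuxE6 chkSE6

end Cfsg.Agent.Chev
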