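import Cfsg.Agent.Chev.Tab.E7Root
import Cfsg.Agent.Chev.Root2

/-! More tables of type E7 (generated by tools/gen_all.py). -/

set_option autoImplicit false
set_option maxRecDepth 1000000

namespace Cfsg.Agent.Chev
open Cfsg.Lie

def sauxE7 : SAux where
  nxt := fun r => Nat.land (Nat.shiftRight 0x23456145635646525646536541654320564653654265431654326543654656656456345623456134562456356465023456145635646525646536541654320 (Nat.mul 4 r)) 15
  dep := fun r => Nat.land (Nat.shiftRight 0x100f0e0d0c0b0a0c0b0a090a0908080706090807070605060504030504030201000807060605040504030204030201000403020100030201000201000100000101020102030102030401020304050102030405030405060506070708090102030405060405060706070808090a070809090a0b0a0b0c0d0b0c0d0e0f1011 (Nat.mul 8 r)) 255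
  bz := fun r i => Int.subNatNat (Nat.land (Nat.shiftRight 0x8180808080808081808080808080818080808080808180808080808081808080808080818080808080808081808080808081808080808080818080808080808180808080808080818080808080818080808080808180808080808080818080808080818080808080808081808080808080808180808080818080808080808180808080808080818080808080818080808080808081808080808080808180808080818080808080808081808080808080808180808080808080818080808180808080808080818080808080808081808080808080808180808080808080818080808080808080818180808080808081808080808080808180808080808180808080808080818080808080808081808080808180808080808080818080808080808081808080808080808180808081808080808080808180808080808080818080808080808081808080808080808081808180808080808080818080808080808081808080808080808180808080808080818080818080808080808081808080808080808180808080808080818080808180808080808080818080808080808081808080808180808080808080818080808080818080808080807f808080808080807f80808080807f80808080808080807f80808080807f80808080807f8080808080808080807f80808080807f80808080807f80808080807f808080808080808080807f80808080807f80808080807f80808080807f80808080807f80808080808080808080807f808080807f80808080807f80808080807f80808080807f8080808080808080807f80808080807f80808080807f80808080807f80808080808080807f80808080807f80808080807f808080808080807f80808080807f8080808080807f8080808080808080808080807f808080807f80808080807f80808080807f80808080807f80808080807f8080808080808080807f80808080807f80808080807f80808080807f80808080808080807f80808080807f80808080807f808080808080807f80808080807f8080808080807f80808080808080807f80808080807f80808080807f808080808080807f80808080807f8080808080807f808080808080807f80808080807f8080808080807f8080808080807f808080808080807f80808080807f8080808080807f8080808080807f8080808080807f8080808080807f8080808080807f808080808080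 (Nat.mul 8 (Nat.add (Nat.mul r 7) i))) 255) 128
  w0 := [0, 1, 2, 0, 3, 1, 2, 0, 3, 2, 4, 3, 1, 2, 0, 3, 2, 4, 3, 1, 5, 4, 3, 1, 2, 0, 3, 2, 4, 3, 1, 5, 4, 3, 2, 0, 6, 5, 4, 3, 1, 2, 0, 3, 2, 4, 3, 1, 5, 4, 3, 2, 0, 6, 5, 4, 3, 1, 2, 3, 4, 5, 6]

theorem chkSE7 : chkS pkE7 nauxE7 sauxE7 = true := by decide +kernel

theorem good2E7 : Good2 chevE7 := Good2.ofChk fastE7 nauxE7 sauxE7 goodE7 chkAuxE7 chkSE7

end Cfsg.Agent.Chev
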