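import Cfsg.Agent.Chev.Tab.F4Root
import Cfsg.Agent.Chev.Root2

/-! More tables of type F4 (generated by tools/gen_all.py). -/

set_option autoImplicit false
set_option maxRecDepth 1000000

namespace Cfsg.Agent.Chev
open Cfsg.Lie

def sauxF4 : SAux where
  nxt := fun r => Nat.land (Nat.shiftRight 0x321023012313210231321323323123132012313210320123 (Nat.mul 4 r)) 15
  dep := fun r => Nat.land (Nat.shiftRight 0x70605070403020605040303020100030201020100010000010102010203020304010203040405060703040508060708 (Nat.mul 8 r)) 255
  bz := fun r i => Int.subNatNat (Nat.land (Nat.shiftRight 0x8080808181808080818080808080817f81808080818080808081808080808081808080818080808180808081808081808080818080808180808080818180808081808080808180808080818080808180808081808180808080818080818080807f808080807f80807f80808080807f80807f81807f817f80807f80807f8080807f8080808080807f80807f80807f81807f817f80807f817f7f817f817f80817f7f808081807f80807f8080807f8080807f80817f7f8080807f8080807f80817f (Nat.mul 8 (Nat.add (Nat.mul r 4) i))) 255) 128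
  w0 := [0, 1, 0, 2, 1, 0, 2, 1, 2, 3, 2, 1, 0, 2, 1, 2, 3, 2, 1, 0, 2, 1, 2, 3]

theorem chkSF4 : chkS pkF4 nauxF4 sauxF4 = true := by decide +kernel

theorem good2F4 : Good2 chevF4 := Good2.ofChk fastF4 nauxF4 sauxF4 goodF4 chkAuxF4 chkSF4

end Cfsg.Agent.Chev
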