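import Cfsg.Agent.Chev.Tab.G2Aux
import Cfsg.Agent.Chev.Root

/-! Root coordinates of type G2 (generated by tools/gen_all.py). -/

set_option autoImplicit false
set_option maxRecDepth 1000000

namespace Cfsg.Agent.Chev
open Cfsg.Lie

def rauxG2 : RAux where
  rcN := fun r j => Nat.land (Nat.shiftRight 0xab9b9a998998788777767565 (Nat.mul 4 (Nat.add (Nat.mul r 2) j))) 15

theorem cEntG2_0 : allRange (chkEnt pkG2 rauxG2) 0 12 = true := by decide +kernel

theorem cEntG2 : ∀ r < 12, chkEnt pkG2 rauxG2 r = true := by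
  intro r hr
  exact allRange_spec cEntG2_0 r (by omega) (by omega)

theorem chkRootG2 : chkRoot pkG2 nauxG2 rauxG2 = true := by decide +kernel

def goodG2 : Good chevG2 :=
  Good.ofChk fastG2 nauxG2 rauxG2 chkAuxG2 chkAux2G2 cEntG2 chkRootG2

end Cfsg.Agent.Chev
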