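import Cfsg.Agent.Chev.Uop
import Cfsg.Prelude.Def_ChevB2

/-! Packed tables for type B2 (generated by tools/gen_all.py) and the bridge to the official tables. -/

set_option autoImplicit false
set_option maxRecDepth 1000000

namespace Cfsg.Agent.Chev
open Cfsg.Lie

def pkB2 : Packed where
  l := 2
  n := 8
  w := 24
  mask := 16777215
  tS := 0x405
  tA := 0x897a6978a8a6a686
  tH := 0x99a9899878876777
  tE := 0x707000906000000000000000000000608000000908706000a05000000905903000000000a08000000708707000000000000000a04704702000000000000000907000000000000000000000703000000000000000906000000000000000000000702000000000000705907000605000000000000701902000000000601000000904706000000000604901903000000000a01000000000000000000000703000902000000000000000000000000000000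
  m := 10
  tC := 0x709000908ffffff00000000060a00000000000000060a00000090a708000a07ffffff907905000709000000000000000a0a00000070a709000000ffffff000a06706704000908000608000000000000000909000000ffffff000000000705000000000607000a07000000000908000000ffffff000000000704000000000000000a06000606707909000607ffffff000000703904000000000603000000000705000a05906708ffffff000606903905000000000a03000000000000000904000000ffffff000705000904000000000000000000000000000000000000000a03
  rE := 0xffffffffffffffffffffffffffffffffffffffffffffffff
  rC := 0xffffffffffffffffffffffffffffffffffffffffffffffffffffffffffff

theorem eEB2_0 : allRange (eEf chevB2 pkB2) 0 8 = true := by decide +kernel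

theorem eEB2 : ∀ r < 8, eEf chevB2 pkB2 r = true := by
  intro r hr
  exact allRange_spec eEB2_0 r (by omega) (by omega)

theorem bridgeB2 : Bridge chevB2 pkB2 where
  rank := by decide +kernel
  nroots := by decide +kernel
  sS := by decide +kernel
  sN := by decide +kernel
  sA := by decide +kernel
  sA' := by decide +kernel
  sH := by decide +kernel
  sH' := by decide +kernel
  sE := by decide +kernel
  sE' := by decide +kernel
  eS := by decide +kernel
  eN := by decide +kernel
  eA := by decide +kernel
  eH := by decide +kernel
  eE := eEB2

theorem dRB2_0 : allRange (descRow pkB2) 0 8 = true := by decide +kernel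

theorem dRB2 : ∀ r < 8, descRow pkB2 r = true := by
  intro r hr
  exact allRange_spec dRB2_0 r (by omega) (by omega)

theorem descOKB2 : DescOK pkB2 where
  m_eq := by decide +kernel
  eq := dRB2

theorem fastB2 : Fast chevB2 pkB2 := ⟨bridgeB2, descOKB2⟩

theorem accB2 : acc chevB2 = pkB2.acc := bridgeB2.acc_eq

theorem wfB2 : WF chevB2 := bridgeB2.wf

end Cfsg.Agent.Chev
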