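import Cfsg.Agent.Chev.Tab.B2
import Cfsg.Agent.Chev.Rel6

/-! Auxiliary packed tables for type B2 (generated by tools/gen_all.py). -/

set_option autoImplicit false
set_option maxRecDepth 1000000

namespace Cfsg.Agent.Chev
open Cfsg.Lie

def tWB2 : ℕ := 0x7050603040102000406020700050103
def tEtaB2 : ℕ := 0x5aff
def tPB2 : ℕ := 0xa9988776aa8a6866a8a6a686897a69788796a798686a6a8a6686a8aa6778899a

def nauxB2 : NAux where
  w := fun i s => Nat.land (Nat.shiftRight tWB2 (Nat.mul 8 (Nat.add (Nat.mul i 8) s))) 255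
  eta := fun i s => Int.subNatNat 1 (Nat.mul 2 (Nat.land (Nat.shiftRight tEtaB2 (Nat.add (Nat.mul i 8) s)) 1))

def prB2 : ℕ → ℕ → ℤ :=
  fun r s => Int.subNatNat (Nat.land (Nat.shiftRight tPB2 (Nat.mul 4 (Nat.add (Nat.mul r 8) s))) 15) 8

theorem chkAuxB2 : chkAux pkB2 nauxB2 = true := by decide +kernel
theorem chkAux2B2 : chkAux2 pkB2 nauxB2 = true := by decide +kernel
theorem chkNB2 : chkN pkB2 nauxB2 = true := by decide +kernel

end Cfsg.Agent.Chev
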