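import Cfsg.Agent.Chev.Simple
import Cfsg.Prelude.Def_ChevG2
import Cfsg.Prelude.Def_ChevB2
import Cfsg.Prelude.Def_ChevD4
import Cfsg.Prelude.Def_ChevF4
import Cfsg.Prelude.Def_ChevE6
import Cfsg.Prelude.Def_ChevE7
import Cfsg.Prelude.Def_ChevE8

/-! Connectedness of the Dynkin diagrams (generated by tools/gen_conn.py). -/

set_option autoImplicit false
set_option maxRecDepth 100000

namespace Cfsg.Agent.Chev
open Cfsg.Lie

theorem connG2 : Conn chevG2 := by
  apply Conn.of_chk [(0, 1)]
  decide +kernel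

theorem connB2 : Conn chevB2 := by
  apply Conn.of_chk [(0, 1)]
  decide +kernel

theorem connD4 : Conn chevD4 := by
  apply Conn.of_chk [(0, 1), (1, 2), (1, 3)]
  decide +kernel

theorem connF4 : Conn chevF4 := by
  apply Conn.of_chk [(0, 1), (1, 2), (2, 3)]
  decide +kernel

theorem connE6 : Conn chevE6 := by
  apply Conn.of_chk [(0, 2), (2, 3), (3, 1), (3, 4), (4, 5)]
  decide +kernel

theorem connE7 : Conn chevE7 := by
  apply Conn.of_chk [(0, 2), (2, 3), (3, 1), (3, 4), (4, 5), (5, 6)]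
  decide +kernel

theorem connE8 : Conn chevE8 := by
  apply Conn.of_chk [(0, 2), (2, 3), (3, 1), (3, 4), (4, 5), (5, 6), (6, 7)]
  decide +kernel

end Cfsg.Agent.Chev
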