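import Cfsg.Agent.Chev.Tab.D4
import Cfsg.Agent.Chev.Rel6

/-! Auxiliary packed tables for type D4 (generated by tools/gen_all.py). -/

set_option autoImplicit false
set_option maxRecDepth 1000000

namespace Cfsg.Agent.Chev
open Cfsg.Lie

def tWD4 : ℕ := 0x17151613141210110e0f0d0b0c0a080906070503040102001714131615120f0e11100a0c0b0d07060908050201040300161715141213110d0c09100f08070e0b0a060405030200011711100f0e05161514130d0c0b0a04030201120908070600
def tEtaD4 : ℕ := 0x52994a6324c6887e1107c3e0
def tPD4 : ℕ := 0xa999989999888877778777769a998998879977988778776799a899897897978978778677998a998798797987987768779899a978897799788976778789999a777788889999677778998877a998997787769988779897879a899797786798978798798798a979797687987987978897899a779967789788978997789977a886997789977889797897978a689797897978879798797986a879798797988779987799688a779987799879887987769977a998798879789789786797979a897897897879897687797998a978798977889967787799899a778899877776999988887777a999987877679887997798879a998977867789789797897899a899776877879879798798998a997677877889779978899899a967777877778888999989999a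

def nauxD4 : NAux where
  w := fun i s => Nat.land (Nat.shiftRight tWD4 (Nat.mul 8 (Nat.add (Nat.mul i 24) s))) 255
  eta := fun i s => Int.subNatNat 1 (Nat.mul 2 (Nat.land (Nat.shiftRight tEtaD4 (Nat.add (Nat.mul i 24) s)) 1))

def prD4 : ℕ → ℕ → ℤ :=
  fun r s => Int.subNatNat (Nat.land (Nat.shiftRight tPD4 (Nat.mul 4 (Nat.add (Nat.mul r 24) s))) 15) 8

theorem chkAuxD4 : chkAux pkD4 nauxD4 = true := by decide +kernel
theorem chkAux2D4 : chkAux2 pkD4 nauxD4 = true := by decide +kernel
theorem chkND4 : chkN pkD4 nauxD4 = true := by decide +kernel

end Cfsg.Agent.Chev
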