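import Cfsg.Agent.Chev.Graph
import Cfsg.Agent.Chev.Tab.D4

/-! Graph automorphisms of type D4 (generated by tools/gen_graph.py). -/

set_option autoImplicit false
set_option maxRecDepth 1000000

namespace Cfsg.Agent.Chev
open Cfsg.Lie

def gauxD4a : GAux where
  π := fun j => ([2, 1, 3, 0] : List ℕ).getD j 0
  ρ := fun s => ([0, 1, 6, 2, 7, 10, 3, 8, 4, 9, 11, 5, 18, 12, 14, 19, 15, 20, 13, 16, 21, 17, 22, 23] : List ℕ).getD s 0
  ε := fun s => ([1, 1, -1, 1, -1, 1, -1, 1, -1, 1, 1, 1, 1, 1, 1, -1, 1, -1, 1, -1, 1, -1, 1, 1] : List ℤ).getD s 0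

theorem chkGD4a : chkG pkD4 gauxD4a = true := by decide +kernel

def gauxD4b : GAux where
  π := fun j => ([3, 1, 0, 2] : List ℕ).getD j 0
  ρ := fun s => ([0, 1, 3, 6, 8, 11, 2, 4, 7, 9, 5, 10, 13, 18, 14, 16, 19, 21, 12, 15, 17, 20, 22, 23] : List ℕ).getD s 0
  ε := fun s => ([1, 1, 1, -1, -1, 1, -1, -1, 1, 1, 1, 1, 1, 1, 1, 1, -1, -1, 1, -1, -1, 1, 1, 1] : List ℤ).getD s 0

theorem chkGD4b : chkG pkD4 gauxD4b = true := by decide +kernel

theorem chkGInvD4ab : chkGInv pkD4 gauxD4a gauxD4b = true := by decide +kernel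

theorem chkGInvD4ba : chkGInv pkD4 gauxD4b gauxD4a = true := by decide +kernel

end Cfsg.Agent.Chev
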