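import Cfsg.Agent.Chev.Graph
import Cfsg.Agent.Chev.Tab.D4

/-! More graph automorphisms of type D4 (generated by tools/gen_graph2.py). -/

set_option autoImplicit false
set_option maxRecDepth 1000000

namespace Cfsg.Agent.Chev
open Cfsg.Lie

def gauxD4i : GAux where
  π := fun j => ([0, 1, 2, 3] : List ℕ).getD j 0
  ρ := fun s => ([0, 1, 2, 3, 4, 5, 6, 7, 8, 9, 10, 11, 12, 13, 14, 15, 16, 17, 18, 19, 20, 21, 22, 23] : List ℕ).getD s 0
  ε := fun s => ([1, 1, 1, 1, 1, 1, 1, 1, 1, 1, 1, 1, 1, 1, 1, 1, 1, 1, 1, 1, 1, 1, 1, 1] : List ℤ).getD s 0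

theorem chkGD4i : chkG pkD4 gauxD4i = true := by decide +kernel

theorem chkGInvD4i : chkGInv pkD4 gauxD4i gauxD4i = true := by decide +kernel

def gauxD4c : GAux where
  π := fun j => ([2, 1, 0, 3] : List ℕ).getD j 0
  ρ := fun s => ([0, 1, 2, 6, 7, 10, 3, 4, 8, 9, 5, 11, 12, 18, 14, 15, 19, 20, 13, 16, 17, 21, 22, 23] : List ℕ).getD s 0
  ε := fun s => ([1, 1, 1, -1, -1, 1, -1, -1, 1, 1, 1, 1, 1, 1, 1, 1, -1, -1, 1, -1, -1, 1, 1, 1] : List ℤ).getD s 0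

theorem chkGD4c : chkG pkD4 gauxD4c = true := by decide +kernel

theorem chkGInvD4c : chkGInv pkD4 gauxD4c gauxD4c = true := by decide +kernel

def gauxD4d : GAux where
  π := fun j => ([3, 1, 2, 0] : List ℕ).getD j 0
  ρ := fun s => ([0, 1, 6, 3, 8, 11, 2, 7, 4, 9, 10, 5, 18, 13, 14, 19, 16, 21, 12, 15, 20, 17, 22, 23] : List ℕ).getD s 0
  ε := fun s => ([1, 1, -1, 1, -1, 1, -1, 1, -1, 1, 1, 1, 1, 1, 1, -1, 1, -1, 1, -1, 1, -1, 1, 1] : List ℤ).getD s 0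

theorem chkGD4d : chkG pkD4 gauxD4d = true := by decide +kernel

theorem chkGInvD4d : chkGInv pkD4 gauxD4d gauxD4d = true := by decide +kernel

def gauxD4e : GAux where
  π := fun j => ([0, 1, 3, 2] : List ℕ).getD j 0
  ρ := fun s => ([0, 1, 3, 2, 4, 5, 6, 8, 7, 9, 11, 10, 13, 12, 14, 16, 15, 17, 18, 19, 21, 20, 22, 23] : List ℕ).getD s 0
  ε := fun s => ([1, 1, 1, 1, 1, 1, 1, 1, 1, 1, 1, 1, 1, 1, 1, 1, 1, 1, 1, 1, 1, 1, 1, 1] : List ℤ).getD s 0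

theorem chkGD4e : chkG pkD4 gauxD4e = true := by decide +kernel

theorem chkGInvD4e : chkGInv pkD4 gauxD4e gauxD4e = true := by decide +kernel

end Cfsg.Agent.Chev
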