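import Cfsg.Agent.Chev.Poin3
import Cfsg.Agent.Chev.Tab.D4Root2
import Cfsg.Agent.Chev.Chk.D4Fin

/-! Orbit tables for the Weyl group of type D4 (generated by tools/gen_orb.py). -/

set_option autoImplicit false
set_option maxRecDepth 1000000

namespace Cfsg.Agent.Chev
open Cfsg.Lie

def cmD4 : ℕ → ℕ → ℤ := fun j k => (([[2, -1, 0, 0], [-1, 2, -1, -1], [0, -1, 2, 0], [0, -1, 0, 2]] : List (List ℤ)).getD j []).getD k 0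

theorem cmD4_eq : ∀ j < chevD4.rank, ∀ k < chevD4.rank, chevD4.cartan j (chevD4.simple k) = cmD4 j k := by
  decide +kernel

def orbD4_0 : List OEnt := [
  ⟨[1, 0, 0, 0], 0, 0, [1, 0, 0, 0]⟩,
  ⟨[-1, 1, 0, 0], 1, 0, [0, 2, 1, 1]⟩,
  ⟨[0, -1, 1, 1], 2, 1, [2, 1, 3, 4]⟩,
  ⟨[0, 0, -1, 1], 3, 2, [3, 3, 2, 5]⟩,
  ⟨[0, 0, 1, -1], 3, 3, [4, 4, 5, 2]⟩,
  ⟨[0, 1, -1, -1], 4, 3, [5, 6, 4, 3]⟩,
  ⟨[1, -1, 0, 0], 5, 1, [7, 5, 6, 6]⟩,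
  ⟨[-1, 0, 0, 0], 6, 0, [6, 7, 7, 7]⟩]

theorem orbD4_0_ok : chkOrb 4 cmD4 [] 0 orbD4_0 = true := by decide +kernel

def orbD4_1 : List OEnt := [
  ⟨[0, 0, 1, 0], 0, 0, [0, 0, 1, 0]⟩,
  ⟨[0, 1, -1, 0], 1, 2, [0, 2, 0, 1]⟩,
  ⟨[1, -1, 0, 1], 2, 1, [0, 1, 2, 3]⟩,
  ⟨[1, 0, 0, -1], 3, 3, [0, 3, 3, 2]⟩]

theorem orbD4_1_ok : chkOrb 4 cmD4 [0] 2 orbD4_1 = true := by decide +kernel

def orbD4_2 : List OEnt := [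
  ⟨[0, 1, 0, 0], 0, 0, [0, 1, 0, 0]⟩,
  ⟨[1, -1, 1, 1], 1, 1, [0, 0, 0, 2]⟩,
  ⟨[1, 0, 1, -1], 2, 3, [0, 2, 0, 1]⟩]

theorem orbD4_2_ok : chkOrb 4 cmD4 [2, 0] 1 orbD4_2 = true := by decide +kernel

def orbD4_3 : List OEnt := [
  ⟨[0, 0, 0, 1], 0, 0, [0, 0, 0, 1]⟩,
  ⟨[0, 1, 0, -1], 1, 3, [0, 0, 0, 0]⟩]

theorem orbD4_3_ok : chkOrb 4 cmD4 [1, 2, 0] 3 orbD4_3 = true := by decide +kernel

theorem psumD4 (q : ℕ) : goodD4.psum goodD4.W q = (orbD4_0.map fun e => q ^ e.d).sum * ((orbD4_1.map fun e => q ^ e.d).sum * ((orbD4_2.map fun e => q ^ e.d).sum * ((orbD4_3.map fun e => q ^ e.d).sum))) := by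
  have hZ : ∀ σ ∈ goodD4.W, goodD4.nn σ = 0 → σ = 1 := fun σ hσ h => (relsD4 ℚ).W_eq_one good2D4 hσ h
  rw [← goodD4.WL_nil,
    goodD4.orb_step hZ cmD4 cmD4_eq [] 0 orbD4_0 (by decide) (OrbOK.of_chk orbD4_0_ok) q,
    goodD4.orb_step hZ cmD4 cmD4_eq [0] 2 orbD4_1 (by decide) (OrbOK.of_chk orbD4_1_ok) q,
    goodD4.orb_step hZ cmD4 cmD4_eq [2, 0] 1 orbD4_2 (by decide) (OrbOK.of_chk orbD4_2_ok) q,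
    goodD4.orb_step hZ cmD4 cmD4_eq [1, 2, 0] 3 orbD4_3 (by decide) (OrbOK.of_chk orbD4_3_ok) q,
    goodD4.WL_full [3, 1, 2, 0] (by decide), goodD4.psum_bot, mul_one]

theorem polyEqD4 : lpmul (polyO orbD4_0) (lpmul (polyO orbD4_1) (lpmul (polyO orbD4_2) (lpmul (polyO orbD4_3) (lpmul (pxd 1) (lpmul (pxd 1) (lpmul (pxd 1) (pxd 1))))))) = lpmul (pxd 2) (lpmul (pxd 4) (lpmul (pxd 4) (pxd 6))) := by decide +kernel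

theorem poinD4 (q : ℕ) : ((goodD4.psum goodD4.W q : ℕ) : ℤ) * ((q : ℤ) - 1) ^ 4 = ((q : ℤ) ^ 2 - 1) * (((q : ℤ) ^ 4 - 1) * (((q : ℤ) ^ 4 - 1) * (((q : ℤ) ^ 6 - 1)))) := by
  have h := congrArg (fun p => pev p (q : ℤ)) polyEqD4
  simp only [pev_lpmul, pev_polyO, pev_pxd] at h
  rw [← h, psumD4]
  push_cast
  ring

end Cfsg.Agent.Chev
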