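import Cfsg.Agent.Chev.Perf
import Cfsg.Prelude.Def_ChevD4

/-! Every root of type D4 is a sum of two roots spanning a system of type A₂ (generated by tools/gen_perf.py). -/

set_option autoImplicit false
set_option maxRecDepth 1000000

namespace Cfsg.Agent.Chev
open Cfsg.Lie

theorem sumA2D4 : SumA2 chevD4 := by
  apply SumA2.of_chk [1, 0, 0, 0, 0, 1, 0, 0, 0, 0, 1, 1, 2, 3, 1, 2, 3, 4, 6, 6, 7, 8, 9, 14] [9, 14, 15, 16, 17, 17, 19, 20, 21, 22, 20, 21, 22, 22, 23, 23, 23, 23, 22, 23, 23, 23, 23, 22] [1, 1, -1, -1, 1, 1, -1, 1, 1, -1, -1, -1, -1, -1, -1, 1, 1, -1, 1, 1, -1, -1, 1, 1]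
  decide +kernel

end Cfsg.Agent.Chev
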