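import Cfsg.Agent.Chev.Derive
import Cfsg.Prelude.Def_ChevAutomorphisms
import Cfsg.Prelude.Def_ChevG2
import Cfsg.Prelude.Def_ChevB2
import Cfsg.Prelude.Def_ChevD4
import Cfsg.Prelude.Def_ChevF4
import Cfsg.Prelude.Def_ChevE6
import Cfsg.Prelude.Def_ChevE7
import Cfsg.Prelude.Def_ChevE8

/-! Derivation certificates (generated by tools/gen_derive.py). -/

set_option autoImplicit false
set_option maxRecDepth 1000000

namespace Cfsg.Agent.Chev
open Cfsg.Lie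

def dcertG2 : List (List (ℕ × ℕ × ℕ)) := [[(0, 0, 7), (0, 1, 4), (1, 7, 3), (0, 1, 5)],
  []]

theorem dchkG2 : ∀ i < chevG2.rank, chevG2.isLong (chevG2.simple i) = false →
    (List.range chevG2.rank).all (fun j => (derive chevG2 3 (dcertG2.getD i []) [chevG2.simple i]).contains
      (chevG2.simple j)) = true := by decide +kernel

def dcertB2 : List (List (ℕ × ℕ × ℕ)) := [[(0, 0, 5), (0, 1, 2), (1, 5, 1), (0, 1, 3)],
  []]

theorem dchkB2 : ∀ i < chevB2.rank, chevB2.isLong (chevB2.simple i) = false →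
    (List.range chevB2.rank).all (fun j => (derive chevB2 2 (dcertB2.getD i []) [chevB2.simple i]).contains
      (chevB2.simple j)) = true := by decide +kernel

def dcertD4 : List (List (ℕ × ℕ × ℕ)) := [[(0, 1, 18), (0, 0, 19), (0, 2, 14), (0, 3, 14), (0, 1, 16), (0, 1, 15)],
  [(0, 0, 14), (0, 2, 14), (0, 3, 14), (0, 1, 19), (0, 1, 16), (0, 1, 15)],
  [(0, 1, 13), (0, 0, 16), (0, 2, 16), (0, 2, 21), (0, 3, 14), (0, 1, 19), (0, 1, 15)],
  [(0, 1, 12), (0, 0, 15), (0, 2, 15), (0, 3, 15), (0, 3, 20), (0, 3, 17), (0, 1, 19), (0, 1, 16)]]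

theorem dchkD4 : ∀ i < chevD4.rank, chevD4.isLong (chevD4.simple i) = false →
    (List.range chevD4.rank).all (fun j => (derive chevD4 1 (dcertD4.getD i []) [chevD4.simple i]).contains
      (chevD4.simple j)) = true := by decide +kernel

def dcertF4 : List (List (ℕ × ℕ × ℕ)) := [[(0, 0, 33), (0, 1, 33), (0, 1, 14), (0, 0, 34), (0, 2, 13), (0, 1, 12), (0, 3, 10), (0, 2, 9), (1, 33, 8), (0, 2, 15), (0, 1, 16), (0, 2, 21), (0, 3, 21), (0, 3, 23), (0, 2, 22)],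
  [(0, 0, 27), (0, 1, 27), (0, 1, 34), (0, 0, 20), (0, 2, 13), (0, 1, 12), (0, 3, 10), (0, 2, 9), (0, 1, 8), (0, 0, 7), (1, 27, 3), (0, 0, 4), (0, 2, 15), (0, 1, 16), (0, 2, 21), (0, 3, 21), (0, 3, 23), (0, 2, 22)],
  [],
  []]

theorem dchkF4 : ∀ i < chevF4.rank, chevF4.isLong (chevF4.simple i) = false →
    (List.range chevF4.rank).all (fun j => (derive chevF4 2 (dcertF4.getD i []) [chevF4.simple i]).contains
      (chevF4.simple j)) = true := by decide +kernel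

def dcertE6 : List (List (ℕ × ℕ × ℕ)) := [[(0, 2, 56), (0, 0, 57), (0, 3, 42), (0, 1, 43), (0, 2, 43), (0, 2, 50), (0, 4, 39), (0, 3, 47), (0, 3, 40), (0, 5, 37), (0, 4, 38)],
  [(0, 3, 46), (0, 1, 47), (0, 2, 39), (0, 4, 39), (0, 0, 43), (0, 3, 43), (0, 3, 40), (0, 3, 58), (0, 5, 37), (0, 2, 57), (0, 4, 38)],
  [(0, 0, 42), (0, 3, 42), (0, 2, 57), (0, 1, 43), (0, 2, 43), (0, 2, 50), (0, 4, 39), (0, 3, 47), (0, 3, 40), (0, 5, 37), (0, 4, 38)],
  [(0, 1, 39), (0, 2, 39), (0, 4, 39), (0, 3, 47), (0, 0, 43), (0, 3, 43), (0, 3, 40), (0, 3, 58), (0, 5, 37), (0, 2, 57), (0, 4, 38)],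
  [(0, 3, 37), (0, 5, 37), (0, 1, 40), (0, 2, 40), (0, 4, 40), (0, 4, 38), (0, 4, 48), (0, 0, 44), (0, 4, 44), (0, 3, 47), (0, 4, 59), (0, 3, 43), (0, 3, 58), (0, 2, 57)],
  [(0, 4, 36), (0, 3, 38), (0, 5, 38), (0, 1, 41), (0, 2, 41), (0, 5, 41), (0, 5, 49), (0, 0, 45), (0, 5, 45), (0, 4, 40), (0, 4, 48), (0, 5, 60), (0, 4, 44), (0, 3, 47), (0, 4, 59), (0, 3, 43), (0, 3, 58), (0, 2, 57)]]

theorem dchkE6 : ∀ i < chevE6.rank, chevE6.isLong (chevE6.simple i) = false →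
    (List.range chevE6.rank).all (fun j => (derive chevE6 1 (dcertE6.getD i []) [chevE6.simple i]).contains
      (chevE6.simple j)) = true := by decide +kernel

def dcertE7 : List (List (ℕ × ℕ × ℕ)) := [[(0, 2, 93), (0, 0, 94), (0, 3, 73), (0, 1, 74), (0, 2, 74), (0, 2, 83), (0, 4, 69), (0, 3, 79), (0, 3, 70), (0, 5, 66), (0, 4, 67), (0, 6, 64), (0, 5, 65)],
  [(0, 3, 78), (0, 1, 79), (0, 2, 69), (0, 4, 69), (0, 0, 74), (0, 3, 74), (0, 3, 70), (0, 3, 95), (0, 5, 66), (0, 2, 94), (0, 4, 67), (0, 6, 64), (0, 5, 65)],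
  [(0, 0, 73), (0, 3, 73), (0, 2, 94), (0, 1, 74), (0, 2, 74), (0, 2, 83), (0, 4, 69), (0, 3, 79), (0, 3, 70), (0, 5, 66), (0, 4, 67), (0, 6, 64), (0, 5, 65)],
  [(0, 1, 69), (0, 2, 69), (0, 4, 69), (0, 3, 79), (0, 0, 74), (0, 3, 74), (0, 3, 70), (0, 3, 95), (0, 5, 66), (0, 2, 94), (0, 4, 67), (0, 6, 64), (0, 5, 65)],
  [(0, 3, 66), (0, 5, 66), (0, 1, 70), (0, 2, 70), (0, 4, 70), (0, 4, 67), (0, 4, 80), (0, 0, 75), (0, 4, 75), (0, 6, 64), (0, 3, 79), (0, 4, 96), (0, 3, 74), (0, 5, 65), (0, 3, 95), (0, 2, 94)],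
  [(0, 4, 64), (0, 6, 64), (0, 3, 67), (0, 5, 67), (0, 5, 65), (0, 1, 71), (0, 2, 71), (0, 5, 71), (0, 5, 81), (0, 0, 76), (0, 5, 76), (0, 4, 70), (0, 4, 80), (0, 5, 97), (0, 4, 75), (0, 3, 79), (0, 4, 96), (0, 3, 74), (0, 3, 95), (0, 2, 94)],
  [(0, 5, 63), (0, 4, 65), (0, 6, 65), (0, 3, 68), (0, 6, 68), (0, 1, 72), (0, 2, 72), (0, 6, 72), (0, 5, 67), (0, 6, 82), (0, 0, 77), (0, 6, 77), (0, 5, 71), (0, 5, 81), (0, 6, 98), (0, 5, 76), (0, 4, 70), (0, 4, 80), (0, 5, 97), (0, 4, 75), (0, 3, 79), (0, 4, 96), (0, 3, 74), (0, 3, 95), (0, 2, 94)]]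

theorem dchkE7 : ∀ i < chevE7.rank, chevE7.isLong (chevE7.simple i) = false →
    (List.range chevE7.rank).all (fun j => (derive chevE7 1 (dcertE7.getD i []) [chevE7.simple i]).contains
      (chevE7.simple j)) = true := by decide +kernel

def dcertE8 : List (List (ℕ × ℕ × ℕ)) := [[(0, 2, 162), (0, 0, 163), (0, 3, 135), (0, 1, 136), (0, 2, 136), (0, 2, 147), (0, 4, 130), (0, 3, 142), (0, 3, 131), (0, 5, 126), (0, 4, 127), (0, 6, 123), (0, 5, 124), (0, 7, 121), (0, 6, 122)],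
  [(0, 3, 141), (0, 1, 142), (0, 2, 130), (0, 4, 130), (0, 0, 136), (0, 3, 136), (0, 3, 131), (0, 3, 164), (0, 5, 126), (0, 2, 163), (0, 4, 127), (0, 6, 123), (0, 5, 124), (0, 7, 121), (0, 6, 122)],
  [(0, 0, 135), (0, 3, 135), (0, 2, 163), (0, 1, 136), (0, 2, 136), (0, 2, 147), (0, 4, 130), (0, 3, 142), (0, 3, 131), (0, 5, 126), (0, 4, 127), (0, 6, 123), (0, 5, 124), (0, 7, 121), (0, 6, 122)],
  [(0, 1, 130), (0, 2, 130), (0, 4, 130), (0, 3, 142), (0, 0, 136), (0, 3, 136), (0, 3, 131), (0, 3, 164), (0, 5, 126), (0, 2, 163), (0, 4, 127), (0, 6, 123), (0, 5, 124), (0, 7, 121), (0, 6, 122)],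
  [(0, 3, 126), (0, 5, 126), (0, 1, 131), (0, 2, 131), (0, 4, 131), (0, 4, 127), (0, 4, 143), (0, 0, 137), (0, 4, 137), (0, 6, 123), (0, 3, 142), (0, 4, 165), (0, 3, 136), (0, 5, 124), (0, 3, 164), (0, 7, 121), (0, 2, 163), (0, 6, 122)],
  [(0, 4, 123), (0, 6, 123), (0, 3, 127), (0, 5, 127), (0, 5, 124), (0, 1, 132), (0, 2, 132), (0, 5, 132), (0, 7, 121), (0, 5, 144), (0, 0, 138), (0, 5, 138), (0, 4, 131), (0, 6, 122), (0, 4, 143), (0, 5, 166), (0, 4, 137), (0, 3, 142), (0, 4, 165), (0, 3, 136), (0, 3, 164), (0, 2, 163)],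
  [(0, 5, 121), (0, 7, 121), (0, 4, 124), (0, 6, 124), (0, 6, 122), (0, 3, 128), (0, 6, 128), (0, 1, 133), (0, 2, 133), (0, 6, 133), (0, 5, 127), (0, 6, 145), (0, 0, 139), (0, 6, 139), (0, 5, 132), (0, 5, 144), (0, 6, 167), (0, 5, 138), (0, 4, 131), (0, 4, 143), (0, 5, 166), (0, 4, 137), (0, 3, 142), (0, 4, 165), (0, 3, 136), (0, 3, 164), (0, 2, 163)],
  [(0, 6, 120), (0, 5, 122), (0, 7, 122), (0, 4, 125), (0, 7, 125), (0, 3, 129), (0, 7, 129), (0, 6, 124), (0, 1, 134), (0, 2, 134), (0, 7, 134), (0, 6, 128), (0, 7, 146), (0, 0, 140), (0, 7, 140), (0, 6, 133), (0, 5, 127), (0, 6, 145), (0, 7, 168), (0, 6, 139), (0, 5, 132), (0, 5, 144), (0, 6, 167), (0, 5, 138), (0, 4, 131), (0, 4, 143), (0, 5, 166), (0, 4, 137), (0, 3, 142), (0, 4, 165), (0, 3, 136), (0, 3, 164), (0, 2, 163)]]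

theorem dchkE8 : ∀ i < chevE8.rank, chevE8.isLong (chevE8.simple i) = false →
    (List.range chevE8.rank).all (fun j => (derive chevE8 1 (dcertE8.getD i []) [chevE8.simple i]).contains
      (chevE8.simple j)) = true := by decide +kernel

def dcert2B2 : List (List (List (ℕ × ℕ × ℕ))) := [[[], []],
  [[], []]]

theorem dchk2B2 : ∀ i < chevB2.rank, ∀ j < chevB2.rank, chevB2.isLong (chevB2.simple i) = false →
    chevB2.isLong (chevB2.simple j) = true →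
    (List.range chevB2.rank).all (fun k => (derive chevB2 1 ((dcert2B2.getD i []).getD j [])
      [chevB2.simple i, chevB2.simple j]).contains (chevB2.simple k)) = true := by decide +kernel

def dcert2F4 : List (List (List (ℕ × ℕ × ℕ))) := [[[], [], [(0, 1, 33), (0, 3, 25), (0, 0, 34), (0, 2, 26)], [(0, 1, 33), (0, 2, 24), (0, 0, 34), (0, 3, 26)]],
  [[], [], [(0, 0, 27), (0, 3, 25), (0, 1, 34), (0, 2, 26)], [(0, 0, 27), (0, 2, 24), (0, 1, 34), (0, 3, 26)]],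
  [[], [], [], []],
  [[], [], [], []]]

theorem dchk2F4 : ∀ i < chevF4.rank, ∀ j < chevF4.rank, chevF4.isLong (chevF4.simple i) = false →
    chevF4.isLong (chevF4.simple j) = true →
    (List.range chevF4.rank).all (fun k => (derive chevF4 1 ((dcert2F4.getD i []).getD j [])
      [chevF4.simple i, chevF4.simple j]).contains (chevF4.simple k)) = true := by decide +kernel

def dcert2G2 : List (List (List (ℕ × ℕ × ℕ))) := [[[], []],
  [[], []]]

theorem dchk2G2 : ∀ i < chevG2.rank, ∀ j < chevG2.rank, chevG2.isLong (chevG2.simple i) = false →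
    chevG2.isLong (chevG2.simple j) = true →
    (List.range chevG2.rank).all (fun k => (derive chevG2 1 ((dcert2G2.getD i []).getD j [])
      [chevG2.simple i, chevG2.simple j]).contains (chevG2.simple k)) = true := by decide +kernel

end Cfsg.Agent.Chev
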