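import Cfsg.Agent.Chev.Graph
import Cfsg.Agent.Chev.Tab.E6

/-! Graph automorphisms of type E6 (generated by tools/gen_graph.py). -/

set_option autoImplicit false
set_option maxRecDepth 1000000

namespace Cfsg.Agent.Chev
open Cfsg.Lie

def gauxE6 : GAux where
  π := fun j => ([5, 1, 4, 3, 2, 0] : List ℕ).getD j 0
  ρ := fun s => ([0, 1, 2, 5, 16, 3, 6, 17, 8, 19, 22, 11, 26, 30, 33, 35, 4, 7, 18, 9, 20, 23, 10, 21, 24, 25, 12, 27, 31, 34, 13, 28, 32, 14, 29, 15, 56, 42, 57, 39, 43, 58, 37, 40, 44, 59, 46, 47, 50, 61, 48, 51, 62, 53, 64, 67, 36, 38, 41, 45, 60, 49, 52, 63, 54, 65, 68, 55, 66, 69, 70, 71] : List ℕ).getD s 0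
  ε := fun s => ([1, 1, 1, 1, -1, 1, 1, -1, 1, -1, -1, 1, -1, 1, -1, 1, -1, -1, 1, -1, 1, 1, -1, 1, 1, 1, -1, 1, -1, 1, 1, -1, 1, -1, 1, 1, 1, 1, -1, 1, -1, 1, 1, -1, 1, -1, 1, 1, 1, -1, 1, 1, -1, 1, -1, -1, 1, -1, 1, -1, 1, -1, -1, 1, -1, 1, 1, -1, 1, 1, 1, 1] : List ℤ).getD s 0

theorem chkGE6 : chkG pkE6 gauxE6 = true := by decide +kernel

theorem chkGInvE6 : chkGInv pkE6 gauxE6 gauxE6 = true := by decide +kernel

end Cfsg.Agent.Chev
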