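import Cfsg.Agent.Chev.Graph
import Cfsg.Agent.Chev.Tab.E6

/-! More graph automorphisms of type E6 (generated by tools/gen_graph2.py). -/

set_option autoImplicit false
set_option maxRecDepth 1000000

namespace Cfsg.Agent.Chev
open Cfsg.Lie

def gauxE6i : GAux where
  π := fun j => ([0, 1, 2, 3, 4, 5] : List ℕ).getD j 0
  ρ := fun s => ([0, 1, 2, 3, 4, 5, 6, 7, 8, 9, 10, 11, 12, 13, 14, 15, 16, 17, 18, 19, 20, 21, 22, 23, 24, 25, 26, 27, 28, 29, 30, 31, 32, 33, 34, 35, 36, 37, 38, 39, 40, 41, 42, 43, 44, 45, 46, 47, 48, 49, 50, 51, 52, 53, 54, 55, 56, 57, 58, 59, 60, 61, 62, 63, 64, 65, 66, 67, 68, 69, 70, 71] : List ℕ).getD s 0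
  ε := fun s => ([1, 1, 1, 1, 1, 1, 1, 1, 1, 1, 1, 1, 1, 1, 1, 1, 1, 1, 1, 1, 1, 1, 1, 1, 1, 1, 1, 1, 1, 1, 1, 1, 1, 1, 1, 1, 1, 1, 1, 1, 1, 1, 1, 1, 1, 1, 1, 1, 1, 1, 1, 1, 1, 1, 1, 1, 1, 1, 1, 1, 1, 1, 1, 1, 1, 1, 1, 1, 1, 1, 1, 1] : List ℤ).getD s 0

theorem chkGE6i : chkG pkE6 gauxE6i = true := by decide +kernel

theorem chkGInvE6i : chkGInv pkE6 gauxE6i gauxE6i = true := by decide +kernel

end Cfsg.Agent.Chev
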