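import Cfsg.Agent.Chev.Poin3
import Cfsg.Agent.Chev.Tab.E6Root2
import Cfsg.Agent.Chev.Chk.E6Fin

/-! Orbit tables for the Weyl group of type E6 (generated by tools/gen_orb.py). -/

set_option autoImplicit false
set_option maxRecDepth 1000000

namespace Cfsg.Agent.Chev
open Cfsg.Lie

def cmE6 : ℕ → ℕ → ℤ := fun j k => (([[2, 0, -1, 0, 0, 0], [0, 2, 0, -1, 0, 0], [-1, 0, 2, -1, 0, 0], [0, -1, -1, 2, -1, 0], [0, 0, 0, -1, 2, -1], [0, 0, 0, 0, -1, 2]] : List (List ℤ)).getD j []).getD k 0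

theorem cmE6_eq : ∀ j < chevE6.rank, ∀ k < chevE6.rank, chevE6.cartan j (chevE6.simple k) = cmE6 j k := by
  decide +kernel

def orbE6_0 : List OEnt := [
  ⟨[1, 0, 0, 0, 0, 0], 0, 0, [1, 0, 0, 0, 0, 0]⟩,
  ⟨[-1, 0, 1, 0, 0, 0], 1, 0, [0, 1, 2, 1, 1, 1]⟩,
  ⟨[0, 0, -1, 1, 0, 0], 2, 2, [2, 2, 1, 3, 2, 2]⟩,
  ⟨[0, 1, 0, -1, 1, 0], 3, 3, [3, 4, 3, 2, 5, 3]⟩,
  ⟨[0, -1, 0, 0, 1, 0], 4, 1, [4, 3, 4, 4, 6, 4]⟩,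
  ⟨[0, 1, 0, 0, -1, 1], 4, 4, [5, 6, 5, 5, 3, 7]⟩,
  ⟨[0, -1, 0, 1, -1, 1], 5, 4, [6, 5, 6, 8, 4, 9]⟩,
  ⟨[0, 1, 0, 0, 0, -1], 5, 5, [7, 9, 7, 7, 7, 5]⟩,
  ⟨[0, 0, 1, -1, 0, 1], 6, 3, [8, 8, 10, 6, 8, 11]⟩,
  ⟨[0, -1, 0, 1, 0, -1], 6, 5, [9, 7, 9, 11, 9, 6]⟩,
  ⟨[1, 0, -1, 0, 0, 1], 7, 2, [12, 10, 8, 10, 10, 13]⟩,
  ⟨[0, 0, 1, -1, 1, -1], 7, 5, [11, 11, 13, 9, 14, 8]⟩,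
  ⟨[-1, 0, 0, 0, 0, 1], 8, 0, [10, 12, 12, 12, 12, 15]⟩,
  ⟨[1, 0, -1, 0, 1, -1], 8, 5, [15, 13, 11, 13, 16, 10]⟩,
  ⟨[0, 0, 1, 0, -1, 0], 8, 4, [14, 14, 16, 14, 11, 14]⟩,
  ⟨[-1, 0, 0, 0, 1, -1], 9, 5, [13, 15, 15, 15, 17, 12]⟩,
  ⟨[1, 0, -1, 1, -1, 0], 9, 4, [17, 16, 14, 18, 13, 16]⟩,
  ⟨[-1, 0, 0, 1, -1, 0], 10, 4, [16, 17, 17, 19, 15, 17]⟩,
  ⟨[1, 1, 0, -1, 0, 0], 10, 3, [19, 20, 18, 16, 18, 18]⟩,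
  ⟨[-1, 1, 1, -1, 0, 0], 11, 3, [18, 21, 22, 17, 19, 19]⟩,
  ⟨[1, -1, 0, 0, 0, 0], 11, 1, [21, 18, 20, 20, 20, 20]⟩,
  ⟨[-1, -1, 1, 0, 0, 0], 12, 1, [20, 19, 23, 21, 21, 21]⟩,
  ⟨[0, 1, -1, 0, 0, 0], 12, 2, [22, 23, 19, 22, 22, 22]⟩,
  ⟨[0, -1, -1, 1, 0, 0], 13, 2, [23, 22, 21, 24, 23, 23]⟩,
  ⟨[0, 0, 0, -1, 1, 0], 14, 3, [24, 24, 24, 23, 25, 24]⟩,
  ⟨[0, 0, 0, 0, -1, 1], 15, 4, [25, 25, 25, 25, 24, 26]⟩,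
  ⟨[0, 0, 0, 0, 0, -1], 16, 5, [26, 26, 26, 26, 26, 25]⟩]

theorem orbE6_0_ok : chkOrb 6 cmE6 [] 0 orbE6_0 = true := by decide +kernel

def orbE6_1 : List OEnt := [
  ⟨[0, 0, 0, 0, 0, 1], 0, 0, [0, 0, 0, 0, 0, 1]⟩,
  ⟨[0, 0, 0, 0, 1, -1], 1, 5, [0, 1, 1, 1, 2, 0]⟩,
  ⟨[0, 0, 0, 1, -1, 0], 2, 4, [0, 2, 2, 3, 1, 2]⟩,
  ⟨[0, 1, 1, -1, 0, 0], 3, 3, [0, 4, 5, 2, 3, 3]⟩,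
  ⟨[0, -1, 1, 0, 0, 0], 4, 1, [0, 3, 6, 4, 4, 4]⟩,
  ⟨[1, 1, -1, 0, 0, 0], 4, 2, [0, 6, 3, 5, 5, 5]⟩,
  ⟨[1, -1, -1, 1, 0, 0], 5, 2, [0, 5, 4, 7, 6, 6]⟩,
  ⟨[1, 0, 0, -1, 1, 0], 6, 3, [0, 7, 7, 6, 8, 7]⟩,
  ⟨[1, 0, 0, 0, -1, 1], 7, 4, [0, 8, 8, 8, 7, 9]⟩,
  ⟨[1, 0, 0, 0, 0, -1], 8, 5, [0, 9, 9, 9, 9, 8]⟩]

theorem orbE6_1_ok : chkOrb 6 cmE6 [0] 5 orbE6_1 = true := by decide +kernel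

def orbE6_2 : List OEnt := [
  ⟨[0, 1, 0, 0, 0, 0], 0, 0, [0, 1, 0, 0, 0, 0]⟩,
  ⟨[0, -1, 0, 1, 0, 0], 1, 1, [0, 0, 1, 2, 1, 0]⟩,
  ⟨[0, 0, 1, -1, 1, 0], 2, 3, [0, 2, 3, 1, 4, 0]⟩,
  ⟨[1, 0, -1, 0, 1, 0], 3, 2, [0, 3, 2, 3, 5, 0]⟩,
  ⟨[0, 0, 1, 0, -1, 1], 3, 4, [0, 4, 5, 4, 2, 0]⟩,
  ⟨[1, 0, -1, 1, -1, 1], 4, 4, [0, 5, 4, 6, 3, 0]⟩,
  ⟨[1, 1, 0, -1, 0, 1], 5, 3, [0, 7, 6, 5, 6, 0]⟩,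
  ⟨[1, -1, 0, 0, 0, 1], 6, 1, [0, 6, 7, 7, 7, 0]⟩]

theorem orbE6_2_ok : chkOrb 6 cmE6 [5, 0] 1 orbE6_2 = true := by decide +kernel

def orbE6_3 : List OEnt := [
  ⟨[0, 0, 1, 0, 0, 0], 0, 0, [0, 0, 1, 0, 0, 0]⟩,
  ⟨[1, 0, -1, 1, 0, 0], 1, 2, [0, 0, 0, 2, 1, 0]⟩,
  ⟨[1, 1, 0, -1, 1, 0], 2, 3, [0, 0, 2, 1, 3, 0]⟩,
  ⟨[1, 1, 0, 0, -1, 1], 3, 4, [0, 0, 3, 3, 2, 0]⟩]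

theorem orbE6_3_ok : chkOrb 6 cmE6 [1, 5, 0] 2 orbE6_3 = true := by decide +kernel

def orbE6_4 : List OEnt := [
  ⟨[0, 0, 0, 1, 0, 0], 0, 0, [0, 0, 0, 1, 0, 0]⟩,
  ⟨[0, 1, 1, -1, 1, 0], 1, 3, [0, 0, 0, 0, 2, 0]⟩,
  ⟨[0, 1, 1, 0, -1, 1], 2, 4, [0, 0, 0, 2, 1, 0]⟩]

theorem orbE6_4_ok : chkOrb 6 cmE6 [2, 1, 5, 0] 3 orbE6_4 = true := by decide +kernel

def orbE6_5 : List OEnt := [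
  ⟨[0, 0, 0, 0, 1, 0], 0, 0, [0, 0, 0, 0, 1, 0]⟩,
  ⟨[0, 0, 0, 1, -1, 1], 1, 4, [0, 0, 0, 0, 0, 0]⟩]

theorem orbE6_5_ok : chkOrb 6 cmE6 [3, 2, 1, 5, 0] 4 orbE6_5 = true := by decide +kernel

theorem psumE6 (q : ℕ) : goodE6.psum goodE6.W q = (orbE6_0.map fun e => q ^ e.d).sum * ((orbE6_1.map fun e => q ^ e.d).sum * ((orbE6_2.map fun e => q ^ e.d).sum * ((orbE6_3.map fun e => q ^ e.d).sum * ((orbE6_4.map fun e => q ^ e.d).sum * ((orbE6_5.map fun e => q ^ e.d).sum))))) := by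
  have hZ : ∀ σ ∈ goodE6.W, goodE6.nn σ = 0 → σ = 1 := fun σ hσ h => (relsE6 ℚ).W_eq_one good2E6 hσ h
  rw [← goodE6.WL_nil,
    goodE6.orb_step hZ cmE6 cmE6_eq [] 0 orbE6_0 (by decide) (OrbOK.of_chk orbE6_0_ok) q,
    goodE6.orb_step hZ cmE6 cmE6_eq [0] 5 orbE6_1 (by decide) (OrbOK.of_chk orbE6_1_ok) q,
    goodE6.orb_step hZ cmE6 cmE6_eq [5, 0] 1 orbE6_2 (by decide) (OrbOK.of_chk orbE6_2_ok) q,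
    goodE6.orb_step hZ cmE6 cmE6_eq [1, 5, 0] 2 orbE6_3 (by decide) (OrbOK.of_chk orbE6_3_ok) q,
    goodE6.orb_step hZ cmE6 cmE6_eq [2, 1, 5, 0] 3 orbE6_4 (by decide) (OrbOK.of_chk orbE6_4_ok) q,
    goodE6.orb_step hZ cmE6 cmE6_eq [3, 2, 1, 5, 0] 4 orbE6_5 (by decide) (OrbOK.of_chk orbE6_5_ok) q,
    goodE6.WL_full [4, 3, 2, 1, 5, 0] (by decide), goodE6.psum_bot, mul_one]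

theorem polyEqE6 : lpmul (polyO orbE6_0) (lpmul (polyO orbE6_1) (lpmul (polyO orbE6_2) (lpmul (polyO orbE6_3) (lpmul (polyO orbE6_4) (lpmul (polyO orbE6_5) (lpmul (pxd 1) (lpmul (pxd 1) (lpmul (pxd 1) (lpmul (pxd 1) (lpmul (pxd 1) (pxd 1))))))))))) = lpmul (pxd 2) (lpmul (pxd 5) (lpmul (pxd 6) (lpmul (pxd 8) (lpmul (pxd 9) (pxd 12))))) := by decide +kernel

theorem poinE6 (q : ℕ) : ((goodE6.psum goodE6.W q : ℕ) : ℤ) * ((q : ℤ) - 1) ^ 6 = ((q : ℤ) ^ 2 - 1) * (((q : ℤ) ^ 5 - 1) * (((q : ℤ) ^ 6 - 1) * (((q : ℤ) ^ 8 - 1) * (((q : ℤ) ^ 9 - 1) * (((q : ℤ) ^ 12 - 1)))))) := by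
  have h := congrArg (fun p => pev p (q : ℤ)) polyEqE6
  simp only [pev_lpmul, pev_polyO, pev_pxd] at h
  rw [← h, psumE6]
  push_cast
  ring

end Cfsg.Agent.Chev
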