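import Cfsg.Agent.Chev.Tab.E6Aux

set_option autoImplicit false
set_option maxRecDepth 1000000

namespace Cfsg.Agent.Chev
open Cfsg.Lie

def pathE6 : PathAux where
  nxt := fun r => Nat.land (Nat.shiftRight 0x13452453541543204535425431543254354544333222211112223340000000033422431 (Nat.mul 4 r)) 15
  dep := fun r => Nat.land (Nat.shiftRight 0x1020304030405050607060708090a0405060607080708090a0708090a08090a090a0a0b0b0c0b0c0d0b0c0d0e0b0c0d0e0d0e0f0f10110b0c0d0e0f0e0f101011121112131415 (Nat.mul 8 r)) 255

theorem chkPathE6 : chkPath pkE6 nauxE6 pathE6 = true := by decide +kernel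
theorem chkSLE6 : chkSL pkE6 = true := by decide +kernel
theorem chkBase0E6 : allBelow (chkBase0 pathE6 71) pkE6.n = true := by decide +kernel

end Cfsg.Agent.Chev
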