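import Cfsg.Agent.Chev.Perf
import Cfsg.Prelude.Def_ChevE6

/-! Every root of type E6 is a sum of two roots spanning a system of type A₂ (generated by tools/gen_perf.py). -/

set_option autoImplicit false
set_option maxRecDepth 1000000

namespace Cfsg.Agent.Chev
open Cfsg.Lie

theorem sumA2E6 : SumA2 chevE6 := by
  apply SumA2.of_chk [1, 0, 0, 0, 0, 0, 0, 0, 0, 0, 0, 1, 1, 1, 2, 5, 0, 0, 0, 0, 0, 0, 0, 0, 0, 0, 1, 1, 1, 2, 1, 1, 1, 2, 2, 3, 4, 3, 4, 2, 3, 4, 5, 5, 6, 7, 1, 2, 3, 4, 5, 6, 7, 8, 9, 10, 16, 16, 16, 17, 18, 16, 17, 18, 19, 20, 21, 22, 23, 24, 25, 46] [25, 46, 47, 48, 49, 50, 51, 52, 53, 54, 55, 53, 54, 55, 55, 55, 61, 62, 63, 64, 65, 66, 67, 68, 69, 70, 64, 65, 66, 66, 67, 68, 69, 67, 68, 67, 68, 69, 69, 70, 70, 70, 69, 70, 70, 70, 71, 71, 71, 71, 71, 71, 71, 71, 71, 71, 66, 69, 70, 70, 70,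 71, 71, 71, 71, 71, 71, 71, 71, 71, 71, 70] [1, 1, -1, 1, -1, 1, -1, 1, 1, -1, 1, 1, -1, 1, 1, 1, -1, 1, -1, -1, 1, -1, 1, -1, 1, -1, -1, 1, -1, -1, -1, 1, -1, 1, -1, -1, -1, -1, 1, -1, 1, -1, -1, -1, 1, -1, -1, 1, -1, 1, -1, 1, -1, -1, 1, -1, 1, 1, 1, -1, 1, 1, -1, 1, 1, -1, 1, -1, 1, -1, 1, 1]
  decide +kernel

end Cfsg.Agent.Chev
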