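import Cfsg.Agent.Chev.Tw1
import Cfsg.Agent.Chev.Tab.E6Graph

/-! Tables of the twisting of type E6 (generated by tools/gen_tw.py). -/

set_option autoImplicit false
set_option maxRecDepth 1000000

namespace Cfsg.Agent.Chev
open Cfsg.Lie

def twcE6 : TwC where
  π := gauxE6.π
  ρ := gauxE6.ρ
  ε := gauxE6.ε
  d := 2
  heads := [56, 42, 39, 46, 38, 40, 47, 41, 44, 48, 45, 49, 51, 52, 53, 60, 54, 63, 55, 65, 66, 69, 70, 71]
  rep := fun s => ([0, 0, 0, 0, 0, 0, 0, 0, 0, 0, 0, 0, 0, 0, 0, 0, 0, 0, 0, 0, 0, 0, 0, 0, 0, 0, 0, 0, 0, 0, 0, 0, 0, 0, 0, 0, 56, 42, 38, 39, 40, 41, 42, 40, 44, 45, 46, 47, 48, 49, 48, 51, 52, 53, 54, 55, 56, 38, 41, 45, 60, 49, 52, 63, 54, 65, 66, 55, 66, 69, 70, 71] : List ℕ).getD s 0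
  kk := fun s => ([0, 0, 0, 0, 0, 0, 0, 0, 0, 0, 0, 0, 0, 0, 0, 0, 0, 0, 0, 0, 0, 0, 0, 0, 0, 0, 0, 0, 0, 0, 0, 0, 0, 0, 0, 0, 1, 1, 0, 0, 0, 0, 0, 1, 0, 0, 0, 0, 0, 0, 1, 0, 0, 0, 0, 0, 0, 1, 1, 1, 0, 1, 1, 0, 1, 0, 0, 1, 1, 0, 0, 0] : List ℕ).getD s 0
  par := fun s => ([(1, 1), (3, 2), (2, 6), (0, 4), (2, 7), (0, 16), (0, 18), (3, 9), (0, 20), (1, 12), (0, 21), (0, 27), (2, 13), (0, 28), (0, 29), (0, 56), (2, 17), (3, 19), (3, 20), (1, 26), (1, 27), (1, 28), (0, 23), (1, 31), (1, 32), (1, 46), (2, 30), (2, 32), (3, 29), (2, 42), (0, 31), (3, 34), (3, 39), (0, 34), (2, 42), (0, 56), (1, 56), (1, 42), (0, 42), (0, 0), (3, 42), (0, 40), (0, 0), (3, 42), (2, 39), (2, 41), (0, 0), (1, 39), (1, 40), (0, 48), (1, 43), (1, 44), (1, 45), (3, 51), (3, 52), (2, 54), (0, 0), (0, 42), (0, 43), (2, 58), (0, 44), (0, 50), (1, 59), (0, 51), (3, 62), (0, 53), (0, 55), (2, 64), (0, 67),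 (2, 65), (3, 69), (1, 70)] : List (ℕ × ℕ)).getD s (0, 0)
  dep := fun s => ([8, 7, 6, 8, 7, 8, 5, 6, 4, 5, 4, 3, 4, 3, 2, 1, 7, 6, 4, 5, 3, 3, 4, 3, 2, 1, 4, 2, 2, 1, 3, 2, 1, 2, 1, 1, 1, 1, 1, 0, 1, 2, 0, 1, 1, 3, 0, 1, 2, 3, 2, 2, 4, 3, 5, 6, 0, 1, 2, 3, 2, 3, 4, 3, 5, 4, 7, 6, 7, 5, 6, 7] : List ℕ).getD s 0

theorem twokE6 : TwOK chevE6 twcE6 where
  d_pos := by decide +kernel
  rho_lt := by decide +kernel
  rho_pow := by decide +kernel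
  rho_neg := by decide +kernel
  rho_pos := by decide +kernel
  simple := by decide +kernel
  eps := by decide +kernel
  perm := by decide +kernel
  sc := by decide +kernel
  comm := by decide +kernel
  sg_e := by decide +kernel
  rep_kk := by decide +kernel
  heads_nodup := by decide +kernel
  eps_neg := by decide +kernel
  comm2 := by decide +kernel
  blk_nodup := by decide +kernel
  orth := by decide +kernel
  trans := by decide +kernel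
  reach := by decide +kernel
  hinj := by decide +kernel
  cover := by decide +kernel
  wJ_sq := by decide +kernel

end Cfsg.Agent.Chev
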