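import Cfsg.Agent.Chev.Poin3
import Cfsg.Agent.Chev.Tab.E7Root2
import Cfsg.Agent.Chev.Chk.E7Fin

/-! Orbit tables for the Weyl group of type E7 (generated by tools/gen_orb.py). -/

set_option autoImplicit false
set_option maxRecDepth 1000000

namespace Cfsg.Agent.Chev
open Cfsg.Lie

def cmE7 : ℕ → ℕ → ℤ := fun j k => (([[2, 0, -1, 0, 0, 0, 0], [0, 2, 0, -1, 0, 0, 0], [-1, 0, 2, -1, 0, 0, 0], [0, -1, -1, 2, -1, 0, 0], [0, 0, 0, -1, 2, -1, 0], [0, 0, 0, 0, -1, 2, -1], [0, 0, 0, 0, 0, -1, 2]] : List (List ℤ)).getD j []).getD k 0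

theorem cmE7_eq : ∀ j < chevE7.rank, ∀ k < chevE7.rank, chevE7.cartan j (chevE7.simple k) = cmE7 j k := by
  decide +kernel

def orbE7_0 : List OEnt := [
  ⟨[0, 0, 0, 0, 0, 0, 1], 0, 0, [0, 0, 0, 0, 0, 0, 1]⟩,
  ⟨[0, 0, 0, 0, 0, 1, -1], 1, 6, [1, 1, 1, 1, 1, 2, 0]⟩,
  ⟨[0, 0, 0, 0, 1, -1, 0], 2, 5, [2, 2, 2, 2, 3, 1, 2]⟩,
  ⟨[0, 0, 0, 1, -1, 0, 0], 3, 4, [3, 3, 3, 4, 2, 3, 3]⟩,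
  ⟨[0, 1, 1, -1, 0, 0, 0], 4, 3, [4, 5, 6, 3, 4, 4, 4]⟩,
  ⟨[0, -1, 1, 0, 0, 0, 0], 5, 1, [5, 4, 7, 5, 5, 5, 5]⟩,
  ⟨[1, 1, -1, 0, 0, 0, 0], 5, 2, [8, 7, 4, 6, 6, 6, 6]⟩,
  ⟨[1, -1, -1, 1, 0, 0, 0], 6, 2, [9, 6, 5, 10, 7, 7, 7]⟩,
  ⟨[-1, 1, 0, 0, 0, 0, 0], 6, 0, [6, 9, 8, 8, 8, 8, 8]⟩,
  ⟨[-1, -1, 0, 1, 0, 0, 0], 7, 0, [7, 8, 9, 11, 9, 9, 9]⟩,
  ⟨[1, 0, 0, -1, 1, 0, 0], 7, 3, [11, 10, 10, 7, 12, 10, 10]⟩,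
  ⟨[-1, 0, 1, -1, 1, 0, 0], 8, 3, [10, 11, 13, 9, 14, 11, 11]⟩,
  ⟨[1, 0, 0, 0, -1, 1, 0], 8, 4, [14, 12, 12, 12, 10, 15, 12]⟩,
  ⟨[0, 0, -1, 0, 1, 0, 0], 9, 2, [13, 13, 11, 13, 16, 13, 13]⟩,
  ⟨[-1, 0, 1, 0, -1, 1, 0], 9, 4, [12, 14, 16, 14, 11, 17, 14]⟩,
  ⟨[1, 0, 0, 0, 0, -1, 1], 9, 5, [17, 15, 15, 15, 15, 12, 18]⟩,
  ⟨[0, 0, -1, 1, -1, 1, 0], 10, 4, [16, 16, 14, 19, 13, 20, 16]⟩,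
  ⟨[-1, 0, 1, 0, 0, -1, 1], 10, 5, [15, 17, 20, 17, 17, 14, 21]⟩,
  ⟨[1, 0, 0, 0, 0, 0, -1], 10, 6, [21, 18, 18, 18, 18, 18, 15]⟩,
  ⟨[0, 1, 0, -1, 0, 1, 0], 11, 3, [19, 22, 19, 16, 19, 23, 19]⟩,
  ⟨[0, 0, -1, 1, 0, -1, 1], 11, 5, [20, 20, 17, 23, 20, 16, 24]⟩,
  ⟨[-1, 0, 1, 0, 0, 0, -1], 11, 6, [18, 21, 24, 21, 21, 21, 17]⟩,
  ⟨[0, -1, 0, 0, 0, 1, 0], 12, 1, [22, 19, 22, 22, 22, 25, 22]⟩,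
  ⟨[0, 1, 0, -1, 1, -1, 1], 12, 5, [23, 25, 23, 20, 26, 19, 27]⟩,
  ⟨[0, 0, -1, 1, 0, 0, -1], 12, 6, [24, 24, 21, 27, 24, 24, 20]⟩,
  ⟨[0, -1, 0, 0, 1, -1, 1], 13, 5, [25, 23, 25, 25, 28, 22, 29]⟩,
  ⟨[0, 1, 0, 0, -1, 0, 1], 13, 4, [26, 28, 26, 26, 23, 26, 30]⟩,
  ⟨[0, 1, 0, -1, 1, 0, -1], 13, 6, [27, 29, 27, 24, 30, 27, 23]⟩,
  ⟨[0, -1, 0, 1, -1, 0, 1], 14, 4, [28, 26, 28, 31, 25, 28, 32]⟩,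
  ⟨[0, -1, 0, 0, 1, 0, -1], 14, 6, [29, 27, 29, 29, 32, 29, 25]⟩,
  ⟨[0, 1, 0, 0, -1, 1, -1], 14, 6, [30, 32, 30, 30, 27, 33, 26]⟩,
  ⟨[0, 0, 1, -1, 0, 0, 1], 15, 3, [31, 31, 34, 28, 31, 31, 35]⟩,
  ⟨[0, -1, 0, 1, -1, 1, -1], 15, 6, [32, 30, 32, 35, 29, 36, 28]⟩,
  ⟨[0, 1, 0, 0, 0, -1, 0], 15, 5, [33, 36, 33, 33, 33, 30, 33]⟩,
  ⟨[1, 0, -1, 0, 0, 0, 1], 16, 2, [37, 34, 31, 34, 34, 34, 38]⟩,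
  ⟨[0, 0, 1, -1, 0, 1, -1], 16, 6, [35, 35, 38, 32, 35, 39, 31]⟩,
  ⟨[0, -1, 0, 1, 0, -1, 0], 16, 5, [36, 33, 36, 39, 36, 32, 36]⟩,
  ⟨[-1, 0, 0, 0, 0, 0, 1], 17, 0, [34, 37, 37, 37, 37, 37, 40]⟩,
  ⟨[1, 0, -1, 0, 0, 1, -1], 17, 6, [40, 38, 35, 38, 38, 41, 34]⟩,
  ⟨[0, 0, 1, -1, 1, -1, 0], 17, 5, [39, 39, 41, 36, 42, 35, 39]⟩,
  ⟨[-1, 0, 0, 0, 0, 1, -1], 18, 6, [38, 40, 40, 40, 40, 43, 37]⟩,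
  ⟨[1, 0, -1, 0, 1, -1, 0], 18, 5, [43, 41, 39, 41, 44, 38, 41]⟩,
  ⟨[0, 0, 1, 0, -1, 0, 0], 18, 4, [42, 42, 44, 42, 39, 42, 42]⟩,
  ⟨[-1, 0, 0, 0, 1, -1, 0], 19, 5, [41, 43, 43, 43, 45, 40, 43]⟩,
  ⟨[1, 0, -1, 1, -1, 0, 0], 19, 4, [45, 44, 42, 46, 41, 44, 44]⟩,
  ⟨[-1, 0, 0, 1, -1, 0, 0], 20, 4, [44, 45, 45, 47, 43, 45, 45]⟩,
  ⟨[1, 1, 0, -1, 0, 0, 0], 20, 3, [47, 48, 46, 44, 46, 46, 46]⟩,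
  ⟨[-1, 1, 1, -1, 0, 0, 0], 21, 3, [46, 49, 50, 45, 47, 47, 47]⟩,
  ⟨[1, -1, 0, 0, 0, 0, 0], 21, 1, [49, 46, 48, 48, 48, 48, 48]⟩,
  ⟨[-1, -1, 1, 0, 0, 0, 0], 22, 1, [48, 47, 51, 49, 49, 49, 49]⟩,
  ⟨[0, 1, -1, 0, 0, 0, 0], 22, 2, [50, 51, 47, 50, 50, 50, 50]⟩,
  ⟨[0, -1, -1, 1, 0, 0, 0], 23, 2, [51, 50, 49, 52, 51, 51, 51]⟩,
  ⟨[0, 0, 0, -1, 1, 0, 0], 24, 3, [52, 52, 52, 51, 53, 52, 52]⟩,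
  ⟨[0, 0, 0, 0, -1, 1, 0], 25, 4, [53, 53, 53, 53, 52, 54, 53]⟩,
  ⟨[0, 0, 0, 0, 0, -1, 1], 26, 5, [54, 54, 54, 54, 54, 53, 55]⟩,
  ⟨[0, 0, 0, 0, 0, 0, -1], 27, 6, [55, 55, 55, 55, 55, 55, 54]⟩]

theorem orbE7_0_ok : chkOrb 7 cmE7 [] 6 orbE7_0 = true := by decide +kernel

def orbE7_1 : List OEnt := [
  ⟨[1, 0, 0, 0, 0, 0, 0], 0, 0, [1, 0, 0, 0, 0, 0, 0]⟩,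
  ⟨[-1, 0, 1, 0, 0, 0, 0], 1, 0, [0, 1, 2, 1, 1, 1, 0]⟩,
  ⟨[0, 0, -1, 1, 0, 0, 0], 2, 2, [2, 2, 1, 3, 2, 2, 0]⟩,
  ⟨[0, 1, 0, -1, 1, 0, 0], 3, 3, [3, 4, 3, 2, 5, 3, 0]⟩,
  ⟨[0, -1, 0, 0, 1, 0, 0], 4, 1, [4, 3, 4, 4, 6, 4, 0]⟩,
  ⟨[0, 1, 0, 0, -1, 1, 0], 4, 4, [5, 6, 5, 5, 3, 7, 0]⟩,
  ⟨[0, -1, 0, 1, -1, 1, 0], 5, 4, [6, 5, 6, 8, 4, 9, 0]⟩,
  ⟨[0, 1, 0, 0, 0, -1, 1], 5, 5, [7, 9, 7, 7, 7, 5, 0]⟩,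
  ⟨[0, 0, 1, -1, 0, 1, 0], 6, 3, [8, 8, 10, 6, 8, 11, 0]⟩,
  ⟨[0, -1, 0, 1, 0, -1, 1], 6, 5, [9, 7, 9, 11, 9, 6, 0]⟩,
  ⟨[1, 0, -1, 0, 0, 1, 0], 7, 2, [12, 10, 8, 10, 10, 13, 0]⟩,
  ⟨[0, 0, 1, -1, 1, -1, 1], 7, 5, [11, 11, 13, 9, 14, 8, 0]⟩,
  ⟨[-1, 0, 0, 0, 0, 1, 0], 8, 0, [10, 12, 12, 12, 12, 15, 0]⟩,
  ⟨[1, 0, -1, 0, 1, -1, 1], 8, 5, [15, 13, 11, 13, 16, 10, 0]⟩,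
  ⟨[0, 0, 1, 0, -1, 0, 1], 8, 4, [14, 14, 16, 14, 11, 14, 0]⟩,
  ⟨[-1, 0, 0, 0, 1, -1, 1], 9, 5, [13, 15, 15, 15, 17, 12, 0]⟩,
  ⟨[1, 0, -1, 1, -1, 0, 1], 9, 4, [17, 16, 14, 18, 13, 16, 0]⟩,
  ⟨[-1, 0, 0, 1, -1, 0, 1], 10, 4, [16, 17, 17, 19, 15, 17, 0]⟩,
  ⟨[1, 1, 0, -1, 0, 0, 1], 10, 3, [19, 20, 18, 16, 18, 18, 0]⟩,
  ⟨[-1, 1, 1, -1, 0, 0, 1], 11, 3, [18, 21, 22, 17, 19, 19, 0]⟩,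
  ⟨[1, -1, 0, 0, 0, 0, 1], 11, 1, [21, 18, 20, 20, 20, 20, 0]⟩,
  ⟨[-1, -1, 1, 0, 0, 0, 1], 12, 1, [20, 19, 23, 21, 21, 21, 0]⟩,
  ⟨[0, 1, -1, 0, 0, 0, 1], 12, 2, [22, 23, 19, 22, 22, 22, 0]⟩,
  ⟨[0, -1, -1, 1, 0, 0, 1], 13, 2, [23, 22, 21, 24, 23, 23, 0]⟩,
  ⟨[0, 0, 0, -1, 1, 0, 1], 14, 3, [24, 24, 24, 23, 25, 24, 0]⟩,
  ⟨[0, 0, 0, 0, -1, 1, 1], 15, 4, [25, 25, 25, 25, 24, 26, 0]⟩,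
  ⟨[0, 0, 0, 0, 0, -1, 2], 16, 5, [26, 26, 26, 26, 26, 25, 0]⟩]

theorem orbE7_1_ok : chkOrb 7 cmE7 [6] 0 orbE7_1 = true := by decide +kernel

def orbE7_2 : List OEnt := [
  ⟨[0, 0, 0, 0, 0, 1, 0], 0, 0, [0, 0, 0, 0, 0, 1, 0]⟩,
  ⟨[0, 0, 0, 0, 1, -1, 1], 1, 5, [0, 1, 1, 1, 2, 0, 0]⟩,
  ⟨[0, 0, 0, 1, -1, 0, 1], 2, 4, [0, 2, 2, 3, 1, 2, 0]⟩,
  ⟨[0, 1, 1, -1, 0, 0, 1], 3, 3, [0, 4, 5, 2, 3, 3, 0]⟩,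
  ⟨[0, -1, 1, 0, 0, 0, 1], 4, 1, [0, 3, 6, 4, 4, 4, 0]⟩,
  ⟨[1, 1, -1, 0, 0, 0, 1], 4, 2, [0, 6, 3, 5, 5, 5, 0]⟩,
  ⟨[1, -1, -1, 1, 0, 0, 1], 5, 2, [0, 5, 4, 7, 6, 6, 0]⟩,
  ⟨[1, 0, 0, -1, 1, 0, 1], 6, 3, [0, 7, 7, 6, 8, 7, 0]⟩,
  ⟨[1, 0, 0, 0, -1, 1, 1], 7, 4, [0, 8, 8, 8, 7, 9, 0]⟩,
  ⟨[1, 0, 0, 0, 0, -1, 2], 8, 5, [0, 9, 9, 9, 9, 8, 0]⟩]

theorem orbE7_2_ok : chkOrb 7 cmE7 [0, 6] 5 orbE7_2 = true := by decide +kernel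

def orbE7_3 : List OEnt := [
  ⟨[0, 1, 0, 0, 0, 0, 0], 0, 0, [0, 1, 0, 0, 0, 0, 0]⟩,
  ⟨[0, -1, 0, 1, 0, 0, 0], 1, 1, [0, 0, 1, 2, 1, 0, 0]⟩,
  ⟨[0, 0, 1, -1, 1, 0, 0], 2, 3, [0, 2, 3, 1, 4, 0, 0]⟩,
  ⟨[1, 0, -1, 0, 1, 0, 0], 3, 2, [0, 3, 2, 3, 5, 0, 0]⟩,
  ⟨[0, 0, 1, 0, -1, 1, 0], 3, 4, [0, 4, 5, 4, 2, 0, 0]⟩,
  ⟨[1, 0, -1, 1, -1, 1, 0], 4, 4, [0, 5, 4, 6, 3, 0, 0]⟩,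
  ⟨[1, 1, 0, -1, 0, 1, 0], 5, 3, [0, 7, 6, 5, 6, 0, 0]⟩,
  ⟨[1, -1, 0, 0, 0, 1, 0], 6, 1, [0, 6, 7, 7, 7, 0, 0]⟩]

theorem orbE7_3_ok : chkOrb 7 cmE7 [5, 0, 6] 1 orbE7_3 = true := by decide +kernel

def orbE7_4 : List OEnt := [
  ⟨[0, 0, 1, 0, 0, 0, 0], 0, 0, [0, 0, 1, 0, 0, 0, 0]⟩,
  ⟨[1, 0, -1, 1, 0, 0, 0], 1, 2, [0, 0, 0, 2, 1, 0, 0]⟩,
  ⟨[1, 1, 0, -1, 1, 0, 0], 2, 3, [0, 0, 2, 1, 3, 0, 0]⟩,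
  ⟨[1, 1, 0, 0, -1, 1, 0], 3, 4, [0, 0, 3, 3, 2, 0, 0]⟩]

theorem orbE7_4_ok : chkOrb 7 cmE7 [1, 5, 0, 6] 2 orbE7_4 = true := by decide +kernel

def orbE7_5 : List OEnt := [
  ⟨[0, 0, 0, 1, 0, 0, 0], 0, 0, [0, 0, 0, 1, 0, 0, 0]⟩,
  ⟨[0, 1, 1, -1, 1, 0, 0], 1, 3, [0, 0, 0, 0, 2, 0, 0]⟩,
  ⟨[0, 1, 1, 0, -1, 1, 0], 2, 4, [0, 0, 0, 2, 1, 0, 0]⟩]

theorem orbE7_5_ok : chkOrb 7 cmE7 [2, 1, 5, 0, 6] 3 orbE7_5 = true := by decide +kernel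

def orbE7_6 : List OEnt := [
  ⟨[0, 0, 0, 0, 1, 0, 0], 0, 0, [0, 0, 0, 0, 1, 0, 0]⟩,
  ⟨[0, 0, 0, 1, -1, 1, 0], 1, 4, [0, 0, 0, 0, 0, 0, 0]⟩]

theorem orbE7_6_ok : chkOrb 7 cmE7 [3, 2, 1, 5, 0, 6] 4 orbE7_6 = true := by decide +kernel

theorem psumE7 (q : ℕ) : goodE7.psum goodE7.W q = (orbE7_0.map fun e => q ^ e.d).sum * ((orbE7_1.map fun e => q ^ e.d).sum * ((orbE7_2.map fun e => q ^ e.d).sum * ((orbE7_3.map fun e => q ^ e.d).sum * ((orbE7_4.map fun e => q ^ e.d).sum * ((orbE7_5.map fun e => q ^ e.d).sum * ((orbE7_6.map fun e => q ^ e.d).sum)))))) := by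
  have hZ : ∀ σ ∈ goodE7.W, goodE7.nn σ = 0 → σ = 1 := fun σ hσ h => (relsE7 ℚ).W_eq_one good2E7 hσ h
  rw [← goodE7.WL_nil,
    goodE7.orb_step hZ cmE7 cmE7_eq [] 6 orbE7_0 (by decide) (OrbOK.of_chk orbE7_0_ok) q,
    goodE7.orb_step hZ cmE7 cmE7_eq [6] 0 orbE7_1 (by decide) (OrbOK.of_chk orbE7_1_ok) q,
    goodE7.orb_step hZ cmE7 cmE7_eq [0, 6] 5 orbE7_2 (by decide) (OrbOK.of_chk orbE7_2_ok) q,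
    goodE7.orb_step hZ cmE7 cmE7_eq [5, 0, 6] 1 orbE7_3 (by decide) (OrbOK.of_chk orbE7_3_ok) q,
    goodE7.orb_step hZ cmE7 cmE7_eq [1, 5, 0, 6] 2 orbE7_4 (by decide) (OrbOK.of_chk orbE7_4_ok) q,
    goodE7.orb_step hZ cmE7 cmE7_eq [2, 1, 5, 0, 6] 3 orbE7_5 (by decide) (OrbOK.of_chk orbE7_5_ok) q,
    goodE7.orb_step hZ cmE7 cmE7_eq [3, 2, 1, 5, 0, 6] 4 orbE7_6 (by decide) (OrbOK.of_chk orbE7_6_ok) q,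
    goodE7.WL_full [4, 3, 2, 1, 5, 0, 6] (by decide), goodE7.psum_bot, mul_one]

theorem polyEqE7 : lpmul (polyO orbE7_0) (lpmul (polyO orbE7_1) (lpmul (polyO orbE7_2) (lpmul (polyO orbE7_3) (lpmul (polyO orbE7_4) (lpmul (polyO orbE7_5) (lpmul (polyO orbE7_6) (lpmul (pxd 1) (lpmul (pxd 1) (lpmul (pxd 1) (lpmul (pxd 1) (lpmul (pxd 1) (lpmul (pxd 1) (pxd 1))))))))))))) = lpmul (pxd 2) (lpmul (pxd 6) (lpmul (pxd 8) (lpmul (pxd 10) (lpmul (pxd 12) (lpmul (pxd 14) (pxd 18)))))) := by decide +kernel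

theorem poinE7 (q : ℕ) : ((goodE7.psum goodE7.W q : ℕ) : ℤ) * ((q : ℤ) - 1) ^ 7 = ((q : ℤ) ^ 2 - 1) * (((q : ℤ) ^ 6 - 1) * (((q : ℤ) ^ 8 - 1) * (((q : ℤ) ^ 10 - 1) * (((q : ℤ) ^ 12 - 1) * (((q : ℤ) ^ 14 - 1) * (((q : ℤ) ^ 18 - 1))))))) := by
  have h := congrArg (fun p => pev p (q : ℤ)) polyEqE7
  simp only [pev_lpmul, pev_polyO, pev_pxd] at h
  rw [← h, psumE7]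
  push_cast
  ring

end Cfsg.Agent.Chev
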