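import Cfsg.Agent.Chev.Tab.E7Aux

set_option autoImplicit false
set_option maxRecDepth 1000000

namespace Cfsg.Agent.Chev
open Cfsg.Lie

def pathE7 : PathAux where
  nxt := fun r => Nat.land (Nat.shiftRight 0x2345614563564652564653654165432056465365426543165432654365465655444333322222111112222333445000000000033344522244533541154320 (Nat.mul 4 r)) 15
  dep := fun r => Nat.land (Nat.shiftRight 0x102030405060405060706070808090a070809090a0b0a0b0c0d0b0c0d0e0f1008090a0a0b0c0b0c0d0e0c0d0e0f100c0d0e0f100d0e0f100e0f100f10101111121112131112131411121314151112131415131415161516171718191112131415161415161716171818191a171819191a1b1a1b1c1d1b1c1d1e1f2021 (Nat.mul 8 r)) 255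

theorem chkPathE7 : chkPath pkE7 nauxE7 pathE7 = true := by decide +kernel
theorem chkSLE7 : chkSL pkE7 = true := by decide +kernel
theorem chkBase0E7 : allBelow (chkBase0 pathE7 125) pkE7.n = true := by decide +kernel

end Cfsg.Agent.Chev
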