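import Cfsg.Agent.Chev.Poin3
import Cfsg.Agent.Chev.Tab.E8Root2
import Cfsg.Agent.Chev.Chk.E8Fin

/-! Orbit tables for the Weyl group of type E8 (generated by tools/gen_orb.py). -/

set_option autoImplicit false
set_option maxRecDepth 1000000

namespace Cfsg.Agent.Chev
open Cfsg.Lie

def cmE8 : ℕ → ℕ → ℤ := fun j k => (([[2, 0, -1, 0, 0, 0, 0, 0], [0, 2, 0, -1, 0, 0, 0, 0], [-1, 0, 2, -1, 0, 0, 0, 0], [0, -1, -1, 2, -1, 0, 0, 0], [0, 0, 0, -1, 2, -1, 0, 0], [0, 0, 0, 0, -1, 2, -1, 0], [0, 0, 0, 0, 0, -1, 2, -1], [0, 0, 0, 0, 0, 0, -1, 2]] : List (List ℤ)).getD j []).getD k 0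

theorem cmE8_eq : ∀ j < chevE8.rank, ∀ k < chevE8.rank, chevE8.cartan j (chevE8.simple k) = cmE8 j k := by
  decide +kernel

def orbE8_0 : List OEnt := [
  ⟨[0, 0, 0, 0, 0, 0, 0, 1], 0, 0, [0, 0, 0, 0, 0, 0, 0, 1]⟩,
  ⟨[0, 0, 0, 0, 0, 0, 1, -1], 1, 7, [1, 1, 1, 1, 1, 1, 2, 0]⟩,
  ⟨[0, 0, 0, 0, 0, 1, -1, 0], 2, 6, [2, 2, 2, 2, 2, 3, 1, 2]⟩,
  ⟨[0, 0, 0, 0, 1, -1, 0, 0], 3, 5, [3, 3, 3, 3, 4, 2, 3, 3]⟩,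
  ⟨[0, 0, 0, 1, -1, 0, 0, 0], 4, 4, [4, 4, 4, 5, 3, 4, 4, 4]⟩,
  ⟨[0, 1, 1, -1, 0, 0, 0, 0], 5, 3, [5, 6, 7, 4, 5, 5, 5, 5]⟩,
  ⟨[0, -1, 1, 0, 0, 0, 0, 0], 6, 1, [6, 5, 8, 6, 6, 6, 6, 6]⟩,
  ⟨[1, 1, -1, 0, 0, 0, 0, 0], 6, 2, [9, 8, 5, 7, 7, 7, 7, 7]⟩,
  ⟨[1, -1, -1, 1, 0, 0, 0, 0], 7, 2, [10, 7, 6, 11, 8, 8, 8, 8]⟩,
  ⟨[-1, 1, 0, 0, 0, 0, 0, 0], 7, 0, [7, 10, 9, 9, 9, 9, 9, 9]⟩,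
  ⟨[-1, -1, 0, 1, 0, 0, 0, 0], 8, 0, [8, 9, 10, 12, 10, 10, 10, 10]⟩,
  ⟨[1, 0, 0, -1, 1, 0, 0, 0], 8, 3, [12, 11, 11, 8, 13, 11, 11, 11]⟩,
  ⟨[-1, 0, 1, -1, 1, 0, 0, 0], 9, 3, [11, 12, 14, 10, 15, 12, 12, 12]⟩,
  ⟨[1, 0, 0, 0, -1, 1, 0, 0], 9, 4, [15, 13, 13, 13, 11, 16, 13, 13]⟩,
  ⟨[0, 0, -1, 0, 1, 0, 0, 0], 10, 2, [14, 14, 12, 14, 17, 14, 14, 14]⟩,
  ⟨[-1, 0, 1, 0, -1, 1, 0, 0], 10, 4, [13, 15, 17, 15, 12, 18, 15, 15]⟩,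
  ⟨[1, 0, 0, 0, 0, -1, 1, 0], 10, 5, [18, 16, 16, 16, 16, 13, 19, 16]⟩,
  ⟨[0, 0, -1, 1, -1, 1, 0, 0], 11, 4, [17, 17, 15, 20, 14, 21, 17, 17]⟩,
  ⟨[-1, 0, 1, 0, 0, -1, 1, 0], 11, 5, [16, 18, 21, 18, 18, 15, 22, 18]⟩,
  ⟨[1, 0, 0, 0, 0, 0, -1, 1], 11, 6, [22, 19, 19, 19, 19, 19, 16, 23]⟩,
  ⟨[0, 1, 0, -1, 0, 1, 0, 0], 12, 3, [20, 24, 20, 17, 20, 25, 20, 20]⟩,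
  ⟨[0, 0, -1, 1, 0, -1, 1, 0], 12, 5, [21, 21, 18, 25, 21, 17, 26, 21]⟩,
  ⟨[-1, 0, 1, 0, 0, 0, -1, 1], 12, 6, [19, 22, 26, 22, 22, 22, 18, 27]⟩,
  ⟨[1, 0, 0, 0, 0, 0, 0, -1], 12, 7, [27, 23, 23, 23, 23, 23, 23, 19]⟩,
  ⟨[0, -1, 0, 0, 0, 1, 0, 0], 13, 1, [24, 20, 24, 24, 24, 28, 24, 24]⟩,
  ⟨[0, 1, 0, -1, 1, -1, 1, 0], 13, 5, [25, 28, 25, 21, 29, 20, 30, 25]⟩,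
  ⟨[0, 0, -1, 1, 0, 0, -1, 1], 13, 6, [26, 26, 22, 30, 26, 26, 21, 31]⟩,
  ⟨[-1, 0, 1, 0, 0, 0, 0, -1], 13, 7, [23, 27, 31, 27, 27, 27, 27, 22]⟩,
  ⟨[0, -1, 0, 0, 1, -1, 1, 0], 14, 5, [28, 25, 28, 28, 32, 24, 33, 28]⟩,
  ⟨[0, 1, 0, 0, -1, 0, 1, 0], 14, 4, [29, 32, 29, 29, 25, 29, 34, 29]⟩,
  ⟨[0, 1, 0, -1, 1, 0, -1, 1], 14, 6, [30, 33, 30, 26, 34, 30, 25, 35]⟩,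
  ⟨[0, 0, -1, 1, 0, 0, 0, -1], 14, 7, [31, 31, 27, 35, 31, 31, 31, 26]⟩,
  ⟨[0, -1, 0, 1, -1, 0, 1, 0], 15, 4, [32, 29, 32, 36, 28, 32, 37, 32]⟩,
  ⟨[0, -1, 0, 0, 1, 0, -1, 1], 15, 6, [33, 30, 33, 33, 37, 33, 28, 38]⟩,
  ⟨[0, 1, 0, 0, -1, 1, -1, 1], 15, 6, [34, 37, 34, 34, 30, 39, 29, 40]⟩,
  ⟨[0, 1, 0, -1, 1, 0, 0, -1], 15, 7, [35, 38, 35, 31, 40, 35, 35, 30]⟩,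
  ⟨[0, 0, 1, -1, 0, 0, 1, 0], 16, 3, [36, 36, 41, 32, 36, 36, 42, 36]⟩,
  ⟨[0, -1, 0, 1, -1, 1, -1, 1], 16, 6, [37, 34, 37, 42, 33, 43, 32, 44]⟩,
  ⟨[0, -1, 0, 0, 1, 0, 0, -1], 16, 7, [38, 35, 38, 38, 44, 38, 38, 33]⟩,
  ⟨[0, 1, 0, 0, 0, -1, 0, 1], 16, 5, [39, 43, 39, 39, 39, 34, 39, 45]⟩,
  ⟨[0, 1, 0, 0, -1, 1, 0, -1], 16, 7, [40, 44, 40, 40, 35, 45, 40, 34]⟩,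
  ⟨[1, 0, -1, 0, 0, 0, 1, 0], 17, 2, [46, 41, 36, 41, 41, 41, 47, 41]⟩,
  ⟨[0, 0, 1, -1, 0, 1, -1, 1], 17, 6, [42, 42, 47, 37, 42, 48, 36, 49]⟩,
  ⟨[0, -1, 0, 1, 0, -1, 0, 1], 17, 5, [43, 39, 43, 48, 43, 37, 43, 50]⟩,
  ⟨[0, -1, 0, 1, -1, 1, 0, -1], 17, 7, [44, 40, 44, 49, 38, 50, 44, 37]⟩,
  ⟨[0, 1, 0, 0, 0, -1, 1, -1], 17, 7, [45, 50, 45, 45, 45, 40, 51, 39]⟩,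
  ⟨[-1, 0, 0, 0, 0, 0, 1, 0], 18, 0, [41, 46, 46, 46, 46, 46, 52, 46]⟩,
  ⟨[1, 0, -1, 0, 0, 1, -1, 1], 18, 6, [52, 47, 42, 47, 47, 53, 41, 54]⟩,
  ⟨[0, 0, 1, -1, 1, -1, 0, 1], 18, 5, [48, 48, 53, 43, 55, 42, 48, 56]⟩,
  ⟨[0, 0, 1, -1, 0, 1, 0, -1], 18, 7, [49, 49, 54, 44, 49, 56, 49, 42]⟩,
  ⟨[0, -1, 0, 1, 0, -1, 1, -1], 18, 7, [50, 45, 50, 56, 50, 44, 57, 43]⟩,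
  ⟨[0, 1, 0, 0, 0, 0, -1, 0], 18, 6, [51, 57, 51, 51, 51, 51, 45, 51]⟩,
  ⟨[-1, 0, 0, 0, 0, 1, -1, 1], 19, 6, [47, 52, 52, 52, 52, 58, 46, 59]⟩,
  ⟨[1, 0, -1, 0, 1, -1, 0, 1], 19, 5, [58, 53, 48, 53, 60, 47, 53, 61]⟩,
  ⟨[1, 0, -1, 0, 0, 1, 0, -1], 19, 7, [59, 54, 49, 54, 54, 61, 54, 47]⟩,
  ⟨[0, 0, 1, 0, -1, 0, 0, 1], 19, 4, [55, 55, 60, 55, 48, 55, 55, 62]⟩,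
  ⟨[0, 0, 1, -1, 1, -1, 1, -1], 19, 7, [56, 56, 61, 50, 62, 49, 63, 48]⟩,
  ⟨[0, -1, 0, 1, 0, 0, -1, 0], 19, 6, [57, 51, 57, 63, 57, 57, 50, 57]⟩,
  ⟨[-1, 0, 0, 0, 1, -1, 0, 1], 20, 5, [53, 58, 58, 58, 64, 52, 58, 65]⟩,
  ⟨[-1, 0, 0, 0, 0, 1, 0, -1], 20, 7, [54, 59, 59, 59, 59, 65, 59, 52]⟩,
  ⟨[1, 0, -1, 1, -1, 0, 0, 1], 20, 4, [64, 60, 55, 66, 53, 60, 60, 67]⟩,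
  ⟨[1, 0, -1, 0, 1, -1, 1, -1], 20, 7, [65, 61, 56, 61, 67, 54, 68, 53]⟩,
  ⟨[0, 0, 1, 0, -1, 0, 1, -1], 20, 7, [62, 62, 67, 62, 56, 62, 69, 55]⟩,
  ⟨[0, 0, 1, -1, 1, 0, -1, 0], 20, 6, [63, 63, 68, 57, 69, 63, 56, 63]⟩,
  ⟨[-1, 0, 0, 1, -1, 0, 0, 1], 21, 4, [60, 64, 64, 70, 58, 64, 64, 71]⟩,
  ⟨[-1, 0, 0, 0, 1, -1, 1, -1], 21, 7, [61, 65, 65, 65, 71, 59, 72, 58]⟩,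
  ⟨[1, 1, 0, -1, 0, 0, 0, 1], 21, 3, [70, 73, 66, 60, 66, 66, 66, 74]⟩,
  ⟨[1, 0, -1, 1, -1, 0, 1, -1], 21, 7, [71, 67, 62, 74, 61, 67, 75, 60]⟩,
  ⟨[1, 0, -1, 0, 1, 0, -1, 0], 21, 6, [72, 68, 63, 68, 75, 68, 61, 68]⟩,
  ⟨[0, 0, 1, 0, -1, 1, -1, 0], 21, 6, [69, 69, 75, 69, 63, 76, 62, 69]⟩,
  ⟨[-1, 1, 1, -1, 0, 0, 0, 1], 22, 3, [66, 77, 78, 64, 70, 70, 70, 79]⟩,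
  ⟨[-1, 0, 0, 1, -1, 0, 1, -1], 22, 7, [67, 71, 71, 79, 65, 71, 80, 64]⟩,
  ⟨[-1, 0, 0, 0, 1, 0, -1, 0], 22, 6, [68, 72, 72, 72, 80, 72, 65, 72]⟩,
  ⟨[1, -1, 0, 0, 0, 0, 0, 1], 22, 1, [77, 66, 73, 73, 73, 73, 73, 81]⟩,
  ⟨[1, 1, 0, -1, 0, 0, 1, -1], 22, 7, [79, 81, 74, 67, 74, 74, 82, 66]⟩,
  ⟨[1, 0, -1, 1, -1, 1, -1, 0], 22, 6, [80, 75, 69, 82, 68, 83, 67, 75]⟩,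
  ⟨[0, 0, 1, 0, 0, -1, 0, 0], 22, 5, [76, 76, 83, 76, 76, 69, 76, 76]⟩,
  ⟨[-1, -1, 1, 0, 0, 0, 0, 1], 23, 1, [73, 70, 84, 77, 77, 77, 77, 85]⟩,
  ⟨[0, 1, -1, 0, 0, 0, 0, 1], 23, 2, [78, 84, 70, 78, 78, 78, 78, 86]⟩,
  ⟨[-1, 1, 1, -1, 0, 0, 1, -1], 23, 7, [74, 85, 86, 71, 79, 79, 87, 70]⟩,
  ⟨[-1, 0, 0, 1, -1, 1, -1, 0], 23, 6, [75, 80, 80, 87, 72, 88, 71, 80]⟩,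
  ⟨[1, -1, 0, 0, 0, 0, 1, -1], 23, 7, [85, 74, 81, 81, 81, 81, 89, 73]⟩,
  ⟨[1, 1, 0, -1, 0, 1, -1, 0], 23, 6, [87, 89, 82, 75, 82, 90, 74, 82]⟩,
  ⟨[1, 0, -1, 1, 0, -1, 0, 0], 23, 5, [88, 83, 76, 90, 83, 75, 83, 83]⟩,
  ⟨[0, -1, -1, 1, 0, 0, 0, 1], 24, 2, [84, 78, 77, 91, 84, 84, 84, 92]⟩,
  ⟨[-1, -1, 1, 0, 0, 0, 1, -1], 24, 7, [81, 79, 92, 85, 85, 85, 93, 77]⟩,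
  ⟨[0, 1, -1, 0, 0, 0, 1, -1], 24, 7, [86, 92, 79, 86, 86, 86, 94, 78]⟩,
  ⟨[-1, 1, 1, -1, 0, 1, -1, 0], 24, 6, [82, 93, 94, 80, 87, 95, 79, 87]⟩,
  ⟨[-1, 0, 0, 1, 0, -1, 0, 0], 24, 5, [83, 88, 88, 95, 88, 80, 88, 88]⟩,
  ⟨[1, -1, 0, 0, 0, 1, -1, 0], 24, 6, [93, 82, 89, 89, 89, 96, 81, 89]⟩,
  ⟨[1, 1, 0, -1, 1, -1, 0, 0], 24, 5, [95, 96, 90, 83, 97, 82, 90, 90]⟩,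
  ⟨[0, 0, 0, -1, 1, 0, 0, 1], 25, 3, [91, 91, 91, 84, 98, 91, 91, 99]⟩,
  ⟨[0, -1, -1, 1, 0, 0, 1, -1], 25, 7, [92, 86, 85, 99, 92, 92, 100, 84]⟩,
  ⟨[-1, -1, 1, 0, 0, 1, -1, 0], 25, 6, [89, 87, 100, 93, 93, 101, 85, 93]⟩,
  ⟨[0, 1, -1, 0, 0, 1, -1, 0], 25, 6, [94, 100, 87, 94, 94, 102, 86, 94]⟩,
  ⟨[-1, 1, 1, -1, 1, -1, 0, 0], 25, 5, [90, 101, 102, 88, 103, 87, 95, 95]⟩,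
  ⟨[1, -1, 0, 0, 1, -1, 0, 0], 25, 5, [101, 90, 96, 96, 104, 89, 96, 96]⟩,
  ⟨[1, 1, 0, 0, -1, 0, 0, 0], 25, 4, [103, 104, 97, 97, 90, 97, 97, 97]⟩,
  ⟨[0, 0, 0, 0, -1, 1, 0, 1], 26, 4, [98, 98, 98, 98, 91, 105, 98, 106]⟩,
  ⟨[0, 0, 0, -1, 1, 0, 1, -1], 26, 7, [99, 99, 99, 92, 106, 99, 107, 91]⟩,
  ⟨[0, -1, -1, 1, 0, 1, -1, 0], 26, 6, [100, 94, 93, 107, 100, 108, 92, 100]⟩,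
  ⟨[-1, -1, 1, 0, 1, -1, 0, 0], 26, 5, [96, 95, 108, 101, 109, 93, 101, 101]⟩,
  ⟨[0, 1, -1, 0, 1, -1, 0, 0], 26, 5, [102, 108, 95, 102, 110, 94, 102, 102]⟩,
  ⟨[-1, 1, 1, 0, -1, 0, 0, 0], 26, 4, [97, 109, 110, 103, 95, 103, 103, 103]⟩,
  ⟨[1, -1, 0, 1, -1, 0, 0, 0], 26, 4, [109, 97, 104, 111, 96, 104, 104, 104]⟩,
  ⟨[0, 0, 0, 0, 0, -1, 1, 1], 27, 5, [105, 105, 105, 105, 105, 98, 112, 113]⟩,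
  ⟨[0, 0, 0, 0, -1, 1, 1, -1], 27, 7, [106, 106, 106, 106, 99, 113, 114, 98]⟩,
  ⟨[0, 0, 0, -1, 1, 1, -1, 0], 27, 6, [107, 107, 107, 100, 114, 115, 99, 107]⟩,
  ⟨[0, -1, -1, 1, 1, -1, 0, 0], 27, 5, [108, 102, 101, 115, 116, 100, 108, 108]⟩,
  ⟨[-1, -1, 1, 1, -1, 0, 0, 0], 27, 4, [104, 103, 116, 117, 101, 109, 109, 109]⟩,
  ⟨[0, 1, -1, 1, -1, 0, 0, 0], 27, 4, [110, 116, 103, 118, 102, 110, 110, 110]⟩,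
  ⟨[1, 0, 1, -1, 0, 0, 0, 0], 27, 3, [117, 111, 119, 104, 111, 111, 111, 111]⟩,
  ⟨[0, 0, 0, 0, 0, 0, -1, 2], 28, 6, [112, 112, 112, 112, 112, 112, 105, 120]⟩,
  ⟨[0, 0, 0, 0, 0, -1, 2, -1], 28, 7, [113, 113, 113, 113, 113, 106, 121, 105]⟩,
  ⟨[0, 0, 0, 0, -1, 2, -1, 0], 28, 6, [114, 114, 114, 114, 107, 122, 106, 114]⟩,
  ⟨[0, 0, 0, -1, 2, -1, 0, 0], 28, 5, [115, 115, 115, 108, 123, 107, 115, 115]⟩,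
  ⟨[0, -1, -1, 2, -1, 0, 0, 0], 28, 4, [116, 110, 109, 124, 108, 116, 116, 116]⟩,
  ⟨[-1, 0, 2, -1, 0, 0, 0, 0], 28, 3, [111, 117, 125, 109, 117, 117, 117, 117]⟩,
  ⟨[0, 2, 0, -1, 0, 0, 0, 0], 28, 3, [118, 126, 118, 110, 118, 118, 118, 118]⟩,
  ⟨[2, 0, -1, 0, 0, 0, 0, 0], 28, 2, [127, 119, 111, 119, 119, 119, 119, 119]⟩,
  ⟨[0, 0, 0, 0, 0, 0, 1, -2], 29, 7, [120, 120, 120, 120, 120, 120, 128, 112]⟩,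
  ⟨[0, 0, 0, 0, 0, 1, -2, 1], 29, 6, [121, 121, 121, 121, 121, 129, 113, 128]⟩,
  ⟨[0, 0, 0, 0, 1, -2, 1, 0], 29, 5, [122, 122, 122, 122, 130, 114, 129, 122]⟩,
  ⟨[0, 0, 0, 1, -2, 1, 0, 0], 29, 4, [123, 123, 123, 131, 115, 130, 123, 123]⟩,
  ⟨[0, 1, 1, -2, 1, 0, 0, 0], 29, 3, [124, 132, 133, 116, 131, 124, 124, 124]⟩,
  ⟨[1, 0, -2, 1, 0, 0, 0, 0], 29, 2, [134, 125, 117, 133, 125, 125, 125, 125]⟩,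
  ⟨[0, -2, 0, 1, 0, 0, 0, 0], 29, 1, [126, 118, 126, 132, 126, 126, 126, 126]⟩,
  ⟨[-2, 0, 1, 0, 0, 0, 0, 0], 29, 0, [119, 127, 134, 127, 127, 127, 127, 127]⟩,
  ⟨[0, 0, 0, 0, 0, 1, -1, -1], 30, 6, [128, 128, 128, 128, 128, 135, 120, 121]⟩,
  ⟨[0, 0, 0, 0, 1, -1, -1, 1], 30, 5, [129, 129, 129, 129, 136, 121, 122, 135]⟩,
  ⟨[0, 0, 0, 1, -1, -1, 1, 0], 30, 4, [130, 130, 130, 137, 122, 123, 136, 130]⟩,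
  ⟨[0, 1, 1, -1, -1, 1, 0, 0], 30, 3, [131, 138, 139, 123, 124, 137, 131, 131]⟩,
  ⟨[0, -1, 1, -1, 1, 0, 0, 0], 30, 1, [132, 124, 140, 126, 138, 132, 132, 132]⟩,
  ⟨[1, 1, -1, -1, 1, 0, 0, 0], 30, 2, [141, 140, 124, 125, 139, 133, 133, 133]⟩,
  ⟨[-1, 0, -1, 1, 0, 0, 0, 0], 30, 0, [125, 134, 127, 141, 134, 134, 134, 134]⟩,
  ⟨[0, 0, 0, 0, 1, -1, 0, -1], 31, 5, [135, 135, 135, 135, 142, 128, 135, 129]⟩,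
  ⟨[0, 0, 0, 1, -1, 0, -1, 1], 31, 4, [136, 136, 136, 143, 129, 136, 130, 142]⟩,
  ⟨[0, 1, 1, -1, 0, -1, 1, 0], 31, 3, [137, 144, 145, 130, 137, 131, 143, 137]⟩,
  ⟨[0, -1, 1, 0, -1, 1, 0, 0], 31, 1, [138, 131, 146, 138, 132, 144, 138, 138]⟩,
  ⟨[1, 1, -1, 0, -1, 1, 0, 0], 31, 2, [147, 146, 131, 139, 133, 145, 139, 139]⟩,
  ⟨[1, -1, -1, 0, 1, 0, 0, 0], 31, 2, [148, 133, 132, 140, 146, 140, 140, 140]⟩,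
  ⟨[-1, 1, 0, -1, 1, 0, 0, 0], 31, 0, [133, 148, 141, 134, 147, 141, 141, 141]⟩,
  ⟨[0, 0, 0, 1, -1, 0, 0, -1], 32, 4, [142, 142, 142, 149, 135, 142, 142, 136]⟩,
  ⟨[0, 1, 1, -1, 0, 0, -1, 1], 32, 3, [143, 150, 151, 136, 143, 143, 137, 149]⟩,
  ⟨[0, -1, 1, 0, 0, -1, 1, 0], 32, 1, [144, 137, 152, 144, 144, 138, 150, 144]⟩,
  ⟨[1, 1, -1, 0, 0, -1, 1, 0], 32, 2, [153, 152, 137, 145, 145, 139, 151, 145]⟩,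
  ⟨[1, -1, -1, 1, -1, 1, 0, 0], 32, 2, [154, 139, 138, 155, 140, 152, 146, 146]⟩,
  ⟨[-1, 1, 0, 0, -1, 1, 0, 0], 32, 0, [139, 154, 147, 147, 141, 153, 147, 147]⟩,
  ⟨[-1, -1, 0, 0, 1, 0, 0, 0], 32, 0, [140, 141, 148, 148, 154, 148, 148, 148]⟩,
  ⟨[0, 1, 1, -1, 0, 0, 0, -1], 33, 3, [149, 156, 157, 142, 149, 149, 149, 143]⟩,
  ⟨[0, -1, 1, 0, 0, 0, -1, 1], 33, 1, [150, 143, 158, 150, 150, 150, 144, 156]⟩,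
  ⟨[1, 1, -1, 0, 0, 0, -1, 1], 33, 2, [159, 158, 143, 151, 151, 151, 145, 157]⟩,
  ⟨[1, -1, -1, 1, 0, -1, 1, 0], 33, 2, [160, 145, 144, 161, 152, 146, 158, 152]⟩,
  ⟨[-1, 1, 0, 0, 0, -1, 1, 0], 33, 0, [145, 160, 153, 153, 153, 147, 159, 153]⟩,
  ⟨[-1, -1, 0, 1, -1, 1, 0, 0], 33, 0, [146, 147, 154, 162, 148, 160, 154, 154]⟩,
  ⟨[1, 0, 0, -1, 0, 1, 0, 0], 33, 3, [162, 155, 155, 146, 155, 161, 155, 155]⟩,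
  ⟨[0, -1, 1, 0, 0, 0, 0, -1], 34, 1, [156, 149, 163, 156, 156, 156, 156, 150]⟩,
  ⟨[1, 1, -1, 0, 0, 0, 0, -1], 34, 2, [164, 163, 149, 157, 157, 157, 157, 151]⟩,
  ⟨[1, -1, -1, 1, 0, 0, -1, 1], 34, 2, [165, 151, 150, 166, 158, 158, 152, 163]⟩,
  ⟨[-1, 1, 0, 0, 0, 0, -1, 1], 34, 0, [151, 165, 159, 159, 159, 159, 153, 164]⟩,
  ⟨[-1, -1, 0, 1, 0, -1, 1, 0], 34, 0, [152, 153, 160, 167, 160, 154, 165, 160]⟩,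
  ⟨[1, 0, 0, -1, 1, -1, 1, 0], 34, 3, [167, 161, 161, 152, 168, 155, 166, 161]⟩,
  ⟨[-1, 0, 1, -1, 0, 1, 0, 0], 34, 3, [155, 162, 169, 154, 162, 167, 162, 162]⟩,
  ⟨[1, -1, -1, 1, 0, 0, 0, -1], 35, 2, [170, 157, 156, 171, 163, 163, 163, 158]⟩,
  ⟨[-1, 1, 0, 0, 0, 0, 0, -1], 35, 0, [157, 170, 164, 164, 164, 164, 164, 159]⟩,
  ⟨[-1, -1, 0, 1, 0, 0, -1, 1], 35, 0, [158, 159, 165, 172, 165, 165, 160, 170]⟩,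
  ⟨[1, 0, 0, -1, 1, 0, -1, 1], 35, 3, [172, 166, 166, 158, 173, 166, 161, 171]⟩,
  ⟨[-1, 0, 1, -1, 1, -1, 1, 0], 35, 3, [161, 167, 174, 160, 175, 162, 172, 167]⟩,
  ⟨[1, 0, 0, 0, -1, 0, 1, 0], 35, 4, [175, 168, 168, 168, 161, 168, 173, 168]⟩,
  ⟨[0, 0, -1, 0, 0, 1, 0, 0], 35, 2, [169, 169, 162, 169, 169, 174, 169, 169]⟩,
  ⟨[-1, -1, 0, 1, 0, 0, 0, -1], 36, 0, [163, 164, 170, 176, 170, 170, 170, 165]⟩,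
  ⟨[1, 0, 0, -1, 1, 0, 0, -1], 36, 3, [176, 171, 171, 163, 177, 171, 171, 166]⟩,
  ⟨[-1, 0, 1, -1, 1, 0, -1, 1], 36, 3, [166, 172, 178, 165, 179, 172, 167, 176]⟩,
  ⟨[1, 0, 0, 0, -1, 1, -1, 1], 36, 4, [179, 173, 173, 173, 166, 180, 168, 177]⟩,
  ⟨[0, 0, -1, 0, 1, -1, 1, 0], 36, 2, [174, 174, 167, 174, 181, 169, 178, 174]⟩,
  ⟨[-1, 0, 1, 0, -1, 0, 1, 0], 36, 4, [168, 175, 181, 175, 167, 175, 179, 175]⟩,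
  ⟨[-1, 0, 1, -1, 1, 0, 0, -1], 37, 3, [171, 176, 182, 170, 183, 176, 176, 172]⟩,
  ⟨[1, 0, 0, 0, -1, 1, 0, -1], 37, 4, [183, 177, 177, 177, 171, 184, 177, 173]⟩,
  ⟨[0, 0, -1, 0, 1, 0, -1, 1], 37, 2, [178, 178, 172, 178, 185, 178, 174, 182]⟩,
  ⟨[-1, 0, 1, 0, -1, 1, -1, 1], 37, 4, [173, 179, 185, 179, 172, 186, 175, 183]⟩,
  ⟨[1, 0, 0, 0, 0, -1, 0, 1], 37, 5, [186, 180, 180, 180, 180, 173, 180, 184]⟩,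
  ⟨[0, 0, -1, 1, -1, 0, 1, 0], 37, 4, [181, 181, 175, 187, 174, 181, 185, 181]⟩,
  ⟨[0, 0, -1, 0, 1, 0, 0, -1], 38, 2, [182, 182, 176, 182, 188, 182, 182, 178]⟩,
  ⟨[-1, 0, 1, 0, -1, 1, 0, -1], 38, 4, [177, 183, 188, 183, 176, 189, 183, 179]⟩,
  ⟨[1, 0, 0, 0, 0, -1, 1, -1], 38, 5, [189, 184, 184, 184, 184, 177, 190, 180]⟩,
  ⟨[0, 0, -1, 1, -1, 1, -1, 1], 38, 4, [185, 185, 179, 191, 178, 192, 181, 188]⟩,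
  ⟨[-1, 0, 1, 0, 0, -1, 0, 1], 38, 5, [180, 186, 192, 186, 186, 179, 186, 189]⟩,
  ⟨[0, 1, 0, -1, 0, 0, 1, 0], 38, 3, [187, 193, 187, 181, 187, 187, 191, 187]⟩,
  ⟨[0, 0, -1, 1, -1, 1, 0, -1], 39, 4, [188, 188, 183, 194, 182, 195, 188, 185]⟩,
  ⟨[-1, 0, 1, 0, 0, -1, 1, -1], 39, 5, [184, 189, 195, 189, 189, 183, 196, 186]⟩,
  ⟨[1, 0, 0, 0, 0, 0, -1, 0], 39, 6, [196, 190, 190, 190, 190, 190, 184, 190]⟩,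
  ⟨[0, 1, 0, -1, 0, 1, -1, 1], 39, 3, [191, 197, 191, 185, 191, 198, 187, 194]⟩,
  ⟨[0, 0, -1, 1, 0, -1, 0, 1], 39, 5, [192, 192, 186, 198, 192, 185, 192, 195]⟩,
  ⟨[0, -1, 0, 0, 0, 0, 1, 0], 39, 1, [193, 187, 193, 193, 193, 193, 197, 193]⟩,
  ⟨[0, 1, 0, -1, 0, 1, 0, -1], 40, 3, [194, 199, 194, 188, 194, 200, 194, 191]⟩,
  ⟨[0, 0, -1, 1, 0, -1, 1, -1], 40, 5, [195, 195, 189, 200, 195, 188, 201, 192]⟩,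
  ⟨[-1, 0, 1, 0, 0, 0, -1, 0], 40, 6, [190, 196, 201, 196, 196, 196, 189, 196]⟩,
  ⟨[0, -1, 0, 0, 0, 1, -1, 1], 40, 1, [197, 191, 197, 197, 197, 202, 193, 199]⟩,
  ⟨[0, 1, 0, -1, 1, -1, 0, 1], 40, 5, [198, 202, 198, 192, 203, 191, 198, 200]⟩,
  ⟨[0, -1, 0, 0, 0, 1, 0, -1], 41, 1, [199, 194, 199, 199, 199, 204, 199, 197]⟩,
  ⟨[0, 1, 0, -1, 1, -1, 1, -1], 41, 5, [200, 204, 200, 195, 205, 194, 206, 198]⟩,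
  ⟨[0, 0, -1, 1, 0, 0, -1, 0], 41, 6, [201, 201, 196, 206, 201, 201, 195, 201]⟩,
  ⟨[0, -1, 0, 0, 1, -1, 0, 1], 41, 5, [202, 198, 202, 202, 207, 197, 202, 204]⟩,
  ⟨[0, 1, 0, 0, -1, 0, 0, 1], 41, 4, [203, 207, 203, 203, 198, 203, 203, 205]⟩,
  ⟨[0, -1, 0, 0, 1, -1, 1, -1], 42, 5, [204, 200, 204, 204, 208, 199, 209, 202]⟩,
  ⟨[0, 1, 0, 0, -1, 0, 1, -1], 42, 4, [205, 208, 205, 205, 200, 205, 210, 203]⟩,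
  ⟨[0, 1, 0, -1, 1, 0, -1, 0], 42, 6, [206, 209, 206, 201, 210, 206, 200, 206]⟩,
  ⟨[0, -1, 0, 1, -1, 0, 0, 1], 42, 4, [207, 203, 207, 211, 202, 207, 207, 208]⟩,
  ⟨[0, -1, 0, 1, -1, 0, 1, -1], 43, 4, [208, 205, 208, 212, 204, 208, 213, 207]⟩,
  ⟨[0, -1, 0, 0, 1, 0, -1, 0], 43, 6, [209, 206, 209, 209, 213, 209, 204, 209]⟩,
  ⟨[0, 1, 0, 0, -1, 1, -1, 0], 43, 6, [210, 213, 210, 210, 206, 214, 205, 210]⟩,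
  ⟨[0, 0, 1, -1, 0, 0, 0, 1], 43, 3, [211, 211, 215, 207, 211, 211, 211, 212]⟩,
  ⟨[0, 0, 1, -1, 0, 0, 1, -1], 44, 3, [212, 212, 216, 208, 212, 212, 217, 211]⟩,
  ⟨[0, -1, 0, 1, -1, 1, -1, 0], 44, 6, [213, 210, 213, 217, 209, 218, 208, 213]⟩,
  ⟨[0, 1, 0, 0, 0, -1, 0, 0], 44, 5, [214, 218, 214, 214, 214, 210, 214, 214]⟩,
  ⟨[1, 0, -1, 0, 0, 0, 0, 1], 44, 2, [219, 215, 211, 215, 215, 215, 215, 216]⟩,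
  ⟨[1, 0, -1, 0, 0, 0, 1, -1], 45, 2, [220, 216, 212, 216, 216, 216, 221, 215]⟩,
  ⟨[0, 0, 1, -1, 0, 1, -1, 0], 45, 6, [217, 217, 221, 213, 217, 222, 212, 217]⟩,
  ⟨[0, -1, 0, 1, 0, -1, 0, 0], 45, 5, [218, 214, 218, 222, 218, 213, 218, 218]⟩,
  ⟨[-1, 0, 0, 0, 0, 0, 0, 1], 45, 0, [215, 219, 219, 219, 219, 219, 219, 220]⟩,
  ⟨[-1, 0, 0, 0, 0, 0, 1, -1], 46, 0, [216, 220, 220, 220, 220, 220, 223, 219]⟩,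
  ⟨[1, 0, -1, 0, 0, 1, -1, 0], 46, 6, [223, 221, 217, 221, 221, 224, 216, 221]⟩,
  ⟨[0, 0, 1, -1, 1, -1, 0, 0], 46, 5, [222, 222, 224, 218, 225, 217, 222, 222]⟩,
  ⟨[-1, 0, 0, 0, 0, 1, -1, 0], 47, 6, [221, 223, 223, 223, 223, 226, 220, 223]⟩,
  ⟨[1, 0, -1, 0, 1, -1, 0, 0], 47, 5, [226, 224, 222, 224, 227, 221, 224, 224]⟩,
  ⟨[0, 0, 1, 0, -1, 0, 0, 0], 47, 4, [225, 225, 227, 225, 222, 225, 225, 225]⟩,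
  ⟨[-1, 0, 0, 0, 1, -1, 0, 0], 48, 5, [224, 226, 226, 226, 228, 223, 226, 226]⟩,
  ⟨[1, 0, -1, 1, -1, 0, 0, 0], 48, 4, [228, 227, 225, 229, 224, 227, 227, 227]⟩,
  ⟨[-1, 0, 0, 1, -1, 0, 0, 0], 49, 4, [227, 228, 228, 230, 226, 228, 228, 228]⟩,
  ⟨[1, 1, 0, -1, 0, 0, 0, 0], 49, 3, [230, 231, 229, 227, 229, 229, 229, 229]⟩,
  ⟨[-1, 1, 1, -1, 0, 0, 0, 0], 50, 3, [229, 232, 233, 228, 230, 230, 230, 230]⟩,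
  ⟨[1, -1, 0, 0, 0, 0, 0, 0], 50, 1, [232, 229, 231, 231, 231, 231, 231, 231]⟩,
  ⟨[-1, -1, 1, 0, 0, 0, 0, 0], 51, 1, [231, 230, 234, 232, 232, 232, 232, 232]⟩,
  ⟨[0, 1, -1, 0, 0, 0, 0, 0], 51, 2, [233, 234, 230, 233, 233, 233, 233, 233]⟩,
  ⟨[0, -1, -1, 1, 0, 0, 0, 0], 52, 2, [234, 233, 232, 235, 234, 234, 234, 234]⟩,
  ⟨[0, 0, 0, -1, 1, 0, 0, 0], 53, 3, [235, 235, 235, 234, 236, 235, 235, 235]⟩,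
  ⟨[0, 0, 0, 0, -1, 1, 0, 0], 54, 4, [236, 236, 236, 236, 235, 237, 236, 236]⟩,
  ⟨[0, 0, 0, 0, 0, -1, 1, 0], 55, 5, [237, 237, 237, 237, 237, 236, 238, 237]⟩,
  ⟨[0, 0, 0, 0, 0, 0, -1, 1], 56, 6, [238, 238, 238, 238, 238, 238, 237, 239]⟩,
  ⟨[0, 0, 0, 0, 0, 0, 0, -1], 57, 7, [239, 239, 239, 239, 239, 239, 239, 238]⟩]

theorem orbE8_0_ok : chkOrb 8 cmE8 [] 7 orbE8_0 = true := by decide +kernel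

def orbE8_1 : List OEnt := [
  ⟨[0, 0, 0, 0, 0, 0, 1, 0], 0, 0, [0, 0, 0, 0, 0, 0, 1, 0]⟩,
  ⟨[0, 0, 0, 0, 0, 1, -1, 1], 1, 6, [1, 1, 1, 1, 1, 2, 0, 0]⟩,
  ⟨[0, 0, 0, 0, 1, -1, 0, 1], 2, 5, [2, 2, 2, 2, 3, 1, 2, 0]⟩,
  ⟨[0, 0, 0, 1, -1, 0, 0, 1], 3, 4, [3, 3, 3, 4, 2, 3, 3, 0]⟩,
  ⟨[0, 1, 1, -1, 0, 0, 0, 1], 4, 3, [4, 5, 6, 3, 4, 4, 4, 0]⟩,
  ⟨[0, -1, 1, 0, 0, 0, 0, 1], 5, 1, [5, 4, 7, 5, 5, 5, 5, 0]⟩,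
  ⟨[1, 1, -1, 0, 0, 0, 0, 1], 5, 2, [8, 7, 4, 6, 6, 6, 6, 0]⟩,
  ⟨[1, -1, -1, 1, 0, 0, 0, 1], 6, 2, [9, 6, 5, 10, 7, 7, 7, 0]⟩,
  ⟨[-1, 1, 0, 0, 0, 0, 0, 1], 6, 0, [6, 9, 8, 8, 8, 8, 8, 0]⟩,
  ⟨[-1, -1, 0, 1, 0, 0, 0, 1], 7, 0, [7, 8, 9, 11, 9, 9, 9, 0]⟩,
  ⟨[1, 0, 0, -1, 1, 0, 0, 1], 7, 3, [11, 10, 10, 7, 12, 10, 10, 0]⟩,
  ⟨[-1, 0, 1, -1, 1, 0, 0, 1], 8, 3, [10, 11, 13, 9, 14, 11, 11, 0]⟩,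
  ⟨[1, 0, 0, 0, -1, 1, 0, 1], 8, 4, [14, 12, 12, 12, 10, 15, 12, 0]⟩,
  ⟨[0, 0, -1, 0, 1, 0, 0, 1], 9, 2, [13, 13, 11, 13, 16, 13, 13, 0]⟩,
  ⟨[-1, 0, 1, 0, -1, 1, 0, 1], 9, 4, [12, 14, 16, 14, 11, 17, 14, 0]⟩,
  ⟨[1, 0, 0, 0, 0, -1, 1, 1], 9, 5, [17, 15, 15, 15, 15, 12, 18, 0]⟩,
  ⟨[0, 0, -1, 1, -1, 1, 0, 1], 10, 4, [16, 16, 14, 19, 13, 20, 16, 0]⟩,
  ⟨[-1, 0, 1, 0, 0, -1, 1, 1], 10, 5, [15, 17, 20, 17, 17, 14, 21, 0]⟩,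
  ⟨[1, 0, 0, 0, 0, 0, -1, 2], 10, 6, [21, 18, 18, 18, 18, 18, 15, 0]⟩,
  ⟨[0, 1, 0, -1, 0, 1, 0, 1], 11, 3, [19, 22, 19, 16, 19, 23, 19, 0]⟩,
  ⟨[0, 0, -1, 1, 0, -1, 1, 1], 11, 5, [20, 20, 17, 23, 20, 16, 24, 0]⟩,
  ⟨[-1, 0, 1, 0, 0, 0, -1, 2], 11, 6, [18, 21, 24, 21, 21, 21, 17, 0]⟩,
  ⟨[0, -1, 0, 0, 0, 1, 0, 1], 12, 1, [22, 19, 22, 22, 22, 25, 22, 0]⟩,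
  ⟨[0, 1, 0, -1, 1, -1, 1, 1], 12, 5, [23, 25, 23, 20, 26, 19, 27, 0]⟩,
  ⟨[0, 0, -1, 1, 0, 0, -1, 2], 12, 6, [24, 24, 21, 27, 24, 24, 20, 0]⟩,
  ⟨[0, -1, 0, 0, 1, -1, 1, 1], 13, 5, [25, 23, 25, 25, 28, 22, 29, 0]⟩,
  ⟨[0, 1, 0, 0, -1, 0, 1, 1], 13, 4, [26, 28, 26, 26, 23, 26, 30, 0]⟩,
  ⟨[0, 1, 0, -1, 1, 0, -1, 2], 13, 6, [27, 29, 27, 24, 30, 27, 23, 0]⟩,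
  ⟨[0, -1, 0, 1, -1, 0, 1, 1], 14, 4, [28, 26, 28, 31, 25, 28, 32, 0]⟩,
  ⟨[0, -1, 0, 0, 1, 0, -1, 2], 14, 6, [29, 27, 29, 29, 32, 29, 25, 0]⟩,
  ⟨[0, 1, 0, 0, -1, 1, -1, 2], 14, 6, [30, 32, 30, 30, 27, 33, 26, 0]⟩,
  ⟨[0, 0, 1, -1, 0, 0, 1, 1], 15, 3, [31, 31, 34, 28, 31, 31, 35, 0]⟩,
  ⟨[0, -1, 0, 1, -1, 1, -1, 2], 15, 6, [32, 30, 32, 35, 29, 36, 28, 0]⟩,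
  ⟨[0, 1, 0, 0, 0, -1, 0, 2], 15, 5, [33, 36, 33, 33, 33, 30, 33, 0]⟩,
  ⟨[1, 0, -1, 0, 0, 0, 1, 1], 16, 2, [37, 34, 31, 34, 34, 34, 38, 0]⟩,
  ⟨[0, 0, 1, -1, 0, 1, -1, 2], 16, 6, [35, 35, 38, 32, 35, 39, 31, 0]⟩,
  ⟨[0, -1, 0, 1, 0, -1, 0, 2], 16, 5, [36, 33, 36, 39, 36, 32, 36, 0]⟩,
  ⟨[-1, 0, 0, 0, 0, 0, 1, 1], 17, 0, [34, 37, 37, 37, 37, 37, 40, 0]⟩,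
  ⟨[1, 0, -1, 0, 0, 1, -1, 2], 17, 6, [40, 38, 35, 38, 38, 41, 34, 0]⟩,
  ⟨[0, 0, 1, -1, 1, -1, 0, 2], 17, 5, [39, 39, 41, 36, 42, 35, 39, 0]⟩,
  ⟨[-1, 0, 0, 0, 0, 1, -1, 2], 18, 6, [38, 40, 40, 40, 40, 43, 37, 0]⟩,
  ⟨[1, 0, -1, 0, 1, -1, 0, 2], 18, 5, [43, 41, 39, 41, 44, 38, 41, 0]⟩,
  ⟨[0, 0, 1, 0, -1, 0, 0, 2], 18, 4, [42, 42, 44, 42, 39, 42, 42, 0]⟩,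
  ⟨[-1, 0, 0, 0, 1, -1, 0, 2], 19, 5, [41, 43, 43, 43, 45, 40, 43, 0]⟩,
  ⟨[1, 0, -1, 1, -1, 0, 0, 2], 19, 4, [45, 44, 42, 46, 41, 44, 44, 0]⟩,
  ⟨[-1, 0, 0, 1, -1, 0, 0, 2], 20, 4, [44, 45, 45, 47, 43, 45, 45, 0]⟩,
  ⟨[1, 1, 0, -1, 0, 0, 0, 2], 20, 3, [47, 48, 46, 44, 46, 46, 46, 0]⟩,
  ⟨[-1, 1, 1, -1, 0, 0, 0, 2], 21, 3, [46, 49, 50, 45, 47, 47, 47, 0]⟩,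
  ⟨[1, -1, 0, 0, 0, 0, 0, 2], 21, 1, [49, 46, 48, 48, 48, 48, 48, 0]⟩,
  ⟨[-1, -1, 1, 0, 0, 0, 0, 2], 22, 1, [48, 47, 51, 49, 49, 49, 49, 0]⟩,
  ⟨[0, 1, -1, 0, 0, 0, 0, 2], 22, 2, [50, 51, 47, 50, 50, 50, 50, 0]⟩,
  ⟨[0, -1, -1, 1, 0, 0, 0, 2], 23, 2, [51, 50, 49, 52, 51, 51, 51, 0]⟩,
  ⟨[0, 0, 0, -1, 1, 0, 0, 2], 24, 3, [52, 52, 52, 51, 53, 52, 52, 0]⟩,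
  ⟨[0, 0, 0, 0, -1, 1, 0, 2], 25, 4, [53, 53, 53, 53, 52, 54, 53, 0]⟩,
  ⟨[0, 0, 0, 0, 0, -1, 1, 2], 26, 5, [54, 54, 54, 54, 54, 53, 55, 0]⟩,
  ⟨[0, 0, 0, 0, 0, 0, -1, 3], 27, 6, [55, 55, 55, 55, 55, 55, 54, 0]⟩]

theorem orbE8_1_ok : chkOrb 8 cmE8 [7] 6 orbE8_1 = true := by decide +kernel

def orbE8_2 : List OEnt := [
  ⟨[1, 0, 0, 0, 0, 0, 0, 0], 0, 0, [1, 0, 0, 0, 0, 0, 0, 0]⟩,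
  ⟨[-1, 0, 1, 0, 0, 0, 0, 0], 1, 0, [0, 1, 2, 1, 1, 1, 0, 0]⟩,
  ⟨[0, 0, -1, 1, 0, 0, 0, 0], 2, 2, [2, 2, 1, 3, 2, 2, 0, 0]⟩,
  ⟨[0, 1, 0, -1, 1, 0, 0, 0], 3, 3, [3, 4, 3, 2, 5, 3, 0, 0]⟩,
  ⟨[0, -1, 0, 0, 1, 0, 0, 0], 4, 1, [4, 3, 4, 4, 6, 4, 0, 0]⟩,
  ⟨[0, 1, 0, 0, -1, 1, 0, 0], 4, 4, [5, 6, 5, 5, 3, 7, 0, 0]⟩,
  ⟨[0, -1, 0, 1, -1, 1, 0, 0], 5, 4, [6, 5, 6, 8, 4, 9, 0, 0]⟩,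
  ⟨[0, 1, 0, 0, 0, -1, 1, 0], 5, 5, [7, 9, 7, 7, 7, 5, 0, 0]⟩,
  ⟨[0, 0, 1, -1, 0, 1, 0, 0], 6, 3, [8, 8, 10, 6, 8, 11, 0, 0]⟩,
  ⟨[0, -1, 0, 1, 0, -1, 1, 0], 6, 5, [9, 7, 9, 11, 9, 6, 0, 0]⟩,
  ⟨[1, 0, -1, 0, 0, 1, 0, 0], 7, 2, [12, 10, 8, 10, 10, 13, 0, 0]⟩,
  ⟨[0, 0, 1, -1, 1, -1, 1, 0], 7, 5, [11, 11, 13, 9, 14, 8, 0, 0]⟩,
  ⟨[-1, 0, 0, 0, 0, 1, 0, 0], 8, 0, [10, 12, 12, 12, 12, 15, 0, 0]⟩,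
  ⟨[1, 0, -1, 0, 1, -1, 1, 0], 8, 5, [15, 13, 11, 13, 16, 10, 0, 0]⟩,
  ⟨[0, 0, 1, 0, -1, 0, 1, 0], 8, 4, [14, 14, 16, 14, 11, 14, 0, 0]⟩,
  ⟨[-1, 0, 0, 0, 1, -1, 1, 0], 9, 5, [13, 15, 15, 15, 17, 12, 0, 0]⟩,
  ⟨[1, 0, -1, 1, -1, 0, 1, 0], 9, 4, [17, 16, 14, 18, 13, 16, 0, 0]⟩,
  ⟨[-1, 0, 0, 1, -1, 0, 1, 0], 10, 4, [16, 17, 17, 19, 15, 17, 0, 0]⟩,
  ⟨[1, 1, 0, -1, 0, 0, 1, 0], 10, 3, [19, 20, 18, 16, 18, 18, 0, 0]⟩,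
  ⟨[-1, 1, 1, -1, 0, 0, 1, 0], 11, 3, [18, 21, 22, 17, 19, 19, 0, 0]⟩,
  ⟨[1, -1, 0, 0, 0, 0, 1, 0], 11, 1, [21, 18, 20, 20, 20, 20, 0, 0]⟩,
  ⟨[-1, -1, 1, 0, 0, 0, 1, 0], 12, 1, [20, 19, 23, 21, 21, 21, 0, 0]⟩,
  ⟨[0, 1, -1, 0, 0, 0, 1, 0], 12, 2, [22, 23, 19, 22, 22, 22, 0, 0]⟩,
  ⟨[0, -1, -1, 1, 0, 0, 1, 0], 13, 2, [23, 22, 21, 24, 23, 23, 0, 0]⟩,
  ⟨[0, 0, 0, -1, 1, 0, 1, 0], 14, 3, [24, 24, 24, 23, 25, 24, 0, 0]⟩,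
  ⟨[0, 0, 0, 0, -1, 1, 1, 0], 15, 4, [25, 25, 25, 25, 24, 26, 0, 0]⟩,
  ⟨[0, 0, 0, 0, 0, -1, 2, 0], 16, 5, [26, 26, 26, 26, 26, 25, 0, 0]⟩]

theorem orbE8_2_ok : chkOrb 8 cmE8 [6, 7] 0 orbE8_2 = true := by decide +kernel

def orbE8_3 : List OEnt := [
  ⟨[0, 0, 0, 0, 0, 1, 0, 0], 0, 0, [0, 0, 0, 0, 0, 1, 0, 0]⟩,
  ⟨[0, 0, 0, 0, 1, -1, 1, 0], 1, 5, [0, 1, 1, 1, 2, 0, 0, 0]⟩,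
  ⟨[0, 0, 0, 1, -1, 0, 1, 0], 2, 4, [0, 2, 2, 3, 1, 2, 0, 0]⟩,
  ⟨[0, 1, 1, -1, 0, 0, 1, 0], 3, 3, [0, 4, 5, 2, 3, 3, 0, 0]⟩,
  ⟨[0, -1, 1, 0, 0, 0, 1, 0], 4, 1, [0, 3, 6, 4, 4, 4, 0, 0]⟩,
  ⟨[1, 1, -1, 0, 0, 0, 1, 0], 4, 2, [0, 6, 3, 5, 5, 5, 0, 0]⟩,
  ⟨[1, -1, -1, 1, 0, 0, 1, 0], 5, 2, [0, 5, 4, 7, 6, 6, 0, 0]⟩,
  ⟨[1, 0, 0, -1, 1, 0, 1, 0], 6, 3, [0, 7, 7, 6, 8, 7, 0, 0]⟩,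
  ⟨[1, 0, 0, 0, -1, 1, 1, 0], 7, 4, [0, 8, 8, 8, 7, 9, 0, 0]⟩,
  ⟨[1, 0, 0, 0, 0, -1, 2, 0], 8, 5, [0, 9, 9, 9, 9, 8, 0, 0]⟩]

theorem orbE8_3_ok : chkOrb 8 cmE8 [0, 6, 7] 5 orbE8_3 = true := by decide +kernel

def orbE8_4 : List OEnt := [
  ⟨[0, 1, 0, 0, 0, 0, 0, 0], 0, 0, [0, 1, 0, 0, 0, 0, 0, 0]⟩,
  ⟨[0, -1, 0, 1, 0, 0, 0, 0], 1, 1, [0, 0, 1, 2, 1, 0, 0, 0]⟩,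
  ⟨[0, 0, 1, -1, 1, 0, 0, 0], 2, 3, [0, 2, 3, 1, 4, 0, 0, 0]⟩,
  ⟨[1, 0, -1, 0, 1, 0, 0, 0], 3, 2, [0, 3, 2, 3, 5, 0, 0, 0]⟩,
  ⟨[0, 0, 1, 0, -1, 1, 0, 0], 3, 4, [0, 4, 5, 4, 2, 0, 0, 0]⟩,
  ⟨[1, 0, -1, 1, -1, 1, 0, 0], 4, 4, [0, 5, 4, 6, 3, 0, 0, 0]⟩,
  ⟨[1, 1, 0, -1, 0, 1, 0, 0], 5, 3, [0, 7, 6, 5, 6, 0, 0, 0]⟩,
  ⟨[1, -1, 0, 0, 0, 1, 0, 0], 6, 1, [0, 6, 7, 7, 7, 0, 0, 0]⟩]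

theorem orbE8_4_ok : chkOrb 8 cmE8 [5, 0, 6, 7] 1 orbE8_4 = true := by decide +kernel

def orbE8_5 : List OEnt := [
  ⟨[0, 0, 1, 0, 0, 0, 0, 0], 0, 0, [0, 0, 1, 0, 0, 0, 0, 0]⟩,
  ⟨[1, 0, -1, 1, 0, 0, 0, 0], 1, 2, [0, 0, 0, 2, 1, 0, 0, 0]⟩,
  ⟨[1, 1, 0, -1, 1, 0, 0, 0], 2, 3, [0, 0, 2, 1, 3, 0, 0, 0]⟩,
  ⟨[1, 1, 0, 0, -1, 1, 0, 0], 3, 4, [0, 0, 3, 3, 2, 0, 0, 0]⟩]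

theorem orbE8_5_ok : chkOrb 8 cmE8 [1, 5, 0, 6, 7] 2 orbE8_5 = true := by decide +kernel

def orbE8_6 : List OEnt := [
  ⟨[0, 0, 0, 1, 0, 0, 0, 0], 0, 0, [0, 0, 0, 1, 0, 0, 0, 0]⟩,
  ⟨[0, 1, 1, -1, 1, 0, 0, 0], 1, 3, [0, 0, 0, 0, 2, 0, 0, 0]⟩,
  ⟨[0, 1, 1, 0, -1, 1, 0, 0], 2, 4, [0, 0, 0, 2, 1, 0, 0, 0]⟩]

theorem orbE8_6_ok : chkOrb 8 cmE8 [2, 1, 5, 0, 6, 7] 3 orbE8_6 = true := by decide +kernel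

def orbE8_7 : List OEnt := [
  ⟨[0, 0, 0, 0, 1, 0, 0, 0], 0, 0, [0, 0, 0, 0, 1, 0, 0, 0]⟩,
  ⟨[0, 0, 0, 1, -1, 1, 0, 0], 1, 4, [0, 0, 0, 0, 0, 0, 0, 0]⟩]

theorem orbE8_7_ok : chkOrb 8 cmE8 [3, 2, 1, 5, 0, 6, 7] 4 orbE8_7 = true := by decide +kernel

theorem psumE8 (q : ℕ) : goodE8.psum goodE8.W q = (orbE8_0.map fun e => q ^ e.d).sum * ((orbE8_1.map fun e => q ^ e.d).sum * ((orbE8_2.map fun e => q ^ e.d).sum * ((orbE8_3.map fun e => q ^ e.d).sum * ((orbE8_4.map fun e => q ^ e.d).sum * ((orbE8_5.map fun e => q ^ e.d).sum * ((orbE8_6.map fun e => q ^ e.d).sum * ((orbE8_7.map fun e => q ^ e.d).sum))))))) := by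
  have hZ : ∀ σ ∈ goodE8.W, goodE8.nn σ = 0 → σ = 1 := fun σ hσ h => (relsE8 ℚ).W_eq_one good2E8 hσ h
  rw [← goodE8.WL_nil,
    goodE8.orb_step hZ cmE8 cmE8_eq [] 7 orbE8_0 (by decide) (OrbOK.of_chk orbE8_0_ok) q,
    goodE8.orb_step hZ cmE8 cmE8_eq [7] 6 orbE8_1 (by decide) (OrbOK.of_chk orbE8_1_ok) q,
    goodE8.orb_step hZ cmE8 cmE8_eq [6, 7] 0 orbE8_2 (by decide) (OrbOK.of_chk orbE8_2_ok) q,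
    goodE8.orb_step hZ cmE8 cmE8_eq [0, 6, 7] 5 orbE8_3 (by decide) (OrbOK.of_chk orbE8_3_ok) q,
    goodE8.orb_step hZ cmE8 cmE8_eq [5, 0, 6, 7] 1 orbE8_4 (by decide) (OrbOK.of_chk orbE8_4_ok) q,
    goodE8.orb_step hZ cmE8 cmE8_eq [1, 5, 0, 6, 7] 2 orbE8_5 (by decide) (OrbOK.of_chk orbE8_5_ok) q,
    goodE8.orb_step hZ cmE8 cmE8_eq [2, 1, 5, 0, 6, 7] 3 orbE8_6 (by decide) (OrbOK.of_chk orbE8_6_ok) q,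
    goodE8.orb_step hZ cmE8 cmE8_eq [3, 2, 1, 5, 0, 6, 7] 4 orbE8_7 (by decide) (OrbOK.of_chk orbE8_7_ok) q,
    goodE8.WL_full [4, 3, 2, 1, 5, 0, 6, 7] (by decide), goodE8.psum_bot, mul_one]

theorem polyEqE8 : lpmul (polyO orbE8_0) (lpmul (polyO orbE8_1) (lpmul (polyO orbE8_2) (lpmul (polyO orbE8_3) (lpmul (polyO orbE8_4) (lpmul (polyO orbE8_5) (lpmul (polyO orbE8_6) (lpmul (polyO orbE8_7) (lpmul (pxd 1) (lpmul (pxd 1) (lpmul (pxd 1) (lpmul (pxd 1) (lpmul (pxd 1) (lpmul (pxd 1) (lpmul (pxd 1) (pxd 1))))))))))))))) = lpmul (pxd 2) (lpmul (pxd 8) (lpmul (pxd 12) (lpmul (pxd 14) (lpmul (pxd 18) (lpmul (pxd 20) (lpmul (pxd 24) (pxd 30))))))) := by decide +kernel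

theorem poinE8 (q : ℕ) : ((goodE8.psum goodE8.W q : ℕ) : ℤ) * ((q : ℤ) - 1) ^ 8 = ((q : ℤ) ^ 2 - 1) * (((q : ℤ) ^ 8 - 1) * (((q : ℤ) ^ 12 - 1) * (((q : ℤ) ^ 14 - 1) * (((q : ℤ) ^ 18 - 1) * (((q : ℤ) ^ 20 - 1) * (((q : ℤ) ^ 24 - 1) * (((q : ℤ) ^ 30 - 1)))))))) := by
  have h := congrArg (fun p => pev p (q : ℤ)) polyEqE8
  simp only [pev_lpmul, pev_polyO, pev_pxd] at h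
  rw [← h, psumE8]
  push_cast
  ring

end Cfsg.Agent.Chev
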