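import Cfsg.Agent.Chev.Tab.E8Aux

set_option autoImplicit false
set_option maxRecDepth 1000000

namespace Cfsg.Agent.Chev
open Cfsg.Lie

def pathE8 : PathAux where
  nxt := fun r => Nat.land (Nat.shiftRight 0x76543212345670034567245673567467576156746757636757647652675764765376541765432067576476537654276543176543276543765476576766555444433333222222111111222223333444556000000000000333344455622224445563335564465111556446533654226543100654321234567 (Nat.mul 4 r)) 15
  dep := fun r => Nat.land (Nat.shiftRight 0x10203040506060708090a0b0c0708090a0b0c0d0a0b0c0d0e0c0d0e0f0e0f101011120d0e0f100f101111121310111212131413141516111213131415141516171516171819161718191a1b1c12131414151615161718161718191a1718191a1b1c1718191a1b1c18191a1b1c191a1b1c1a1b1c1b1c1c1d1d1e1d1e1f1d1e1f201d1e1f20211d1e1f2021221d1e1f2021221f20212223212223242324252526271d1e1f202122232021222324222324252425262627282324252625262727282926272828292a292a2b2c272829292a2b2a2b2c2d2b2c2d2e2f2c2d2e2f3031322d2e2f3031323333343536373839 (Nat.mul 8 r)) 255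

theorem chkPathE8 : chkPath pkE8 nauxE8 pathE8 = true := by decide +kernel
theorem chkSLE8 : chkSL pkE8 = true := by decide +kernel
theorem chkBase0E8 : allBelow (chkBase0 pathE8 239) pkE8.n = true := by decide +kernel

end Cfsg.Agent.Chev
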