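import Cfsg.Agent.Chev.Perf
import Cfsg.Prelude.Def_ChevE8

/-! Every root of type E8 is a sum of two roots spanning a system of type A₂ (generated by tools/gen_perf.py). -/

set_option autoImplicit false
set_option maxRecDepth 1000000

namespace Cfsg.Agent.Chev
open Cfsg.Lie

theorem sumA2E8 : SumA2 chevE8 := by
  apply SumA2.of_chk [1, 0, 0, 0, 0, 0, 0, 0, 0, 0, 0, 0, 0, 1, 0, 0, 0, 0, 0, 0, 1, 0, 0, 0, 0, 1, 0, 0, 0, 1, 0, 0, 1, 0, 1, 2, 0, 0, 0, 1, 0, 0, 1, 0, 1, 2, 0, 0, 1, 0, 1, 2, 0, 1, 2, 3, 0, 0, 1, 0, 1, 2, 0, 1, 2, 3, 0, 1, 2, 3, 4, 0, 1, 2, 3, 4, 5, 6, 0, 0, 1, 0, 1, 2, 0, 1, 2, 3, 0, 1, 2, 3, 4, 0, 1, 2, 3, 4, 5, 0, 1, 2, 3, 4, 5, 0, 1, 2, 3, 4, 0, 1, 2, 3, 0, 1, 2, 0, 1, 0, 1, 2, 2, 3, 3, 3, 4, 4, 4, 4, 5, 5, 5, 5, 5, 6, 6, 6, 6, 6, 6, 7, 7, 7, 7, 7, 7, 8, 8, 8, 8, 8, 9, 9, 9, 9, 10, 10, 10, 11, 11, 12,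 14, 14, 14, 14, 14, 14, 14, 15, 15, 15, 15, 15, 16, 16, 16, 16, 17, 17, 17, 18, 18, 19, 21, 21, 21, 21, 22, 22, 22, 23, 23, 24, 26, 26, 26, 27, 27, 28, 30, 30, 31, 33, 36, 36, 36, 37, 37, 38, 40, 40, 41, 43, 46, 46, 47, 49, 52, 56, 56, 57, 59, 62, 66, 71, 78, 78, 79, 81, 84, 88, 93, 99, 105, 110, 114, 117, 119, 120] [119, 120, 122, 125, 129, 134, 140, 146, 151, 155, 158, 160, 161, 161, 168, 173, 177, 180, 182, 183, 183, 187, 190, 192, 193, 193, 196, 198, 199, 199, 201, 202, 202, 203, 203, 203, 206, 208, 209, 209, 211, 212, 212, 213, 213, 213, 215, 216, 216, 217, 217, 217, 218, 218, 218, 218, 220, 221, 221, 222, 222, 222, 223, 223, 223, 223, 224, 224, 224, 224, 224, 225, 225, 225, 225, 225, 225, 225, 227, 228, 228, 229, 229, 229, 230, 230, 230, 230, 231, 231, 231, 231, 231, 232, 232, 232, 232, 232, 232, 233, 233, 233,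 233, 233, 233, 234, 234, 234, 234, 234, 235, 235, 235, 235, 236, 236, 236, 237, 237, 238, 239, 238, 239, 237, 238, 239, 236, 237, 238, 239, 235, 236, 237, 238, 239, 234, 235, 236, 237, 238, 239, 234, 235, 236, 237, 238, 239, 235, 236, 237, 238, 239, 236, 237, 238, 239, 237, 238, 239, 238, 239, 239, 233, 234, 235, 236, 237, 238, 239, 235, 236, 237, 238, 239, 236, 237, 238, 239, 237, 238, 239, 238, 239, 239, 236, 237, 238, 239, 237, 238, 239, 238, 239, 239, 237, 238, 239, 238, 239, 239, 238, 239, 239, 239, 237, 238, 239, 238, 239, 239, 238, 239, 239, 239, 238, 239, 239, 239, 239, 238, 239, 239, 239, 239, 239, 239, 238, 239, 239, 239, 239, 239, 239, 239, 239, 239, 239, 239, 239, 238] [1, 1, 1, 1, 1, 1, 1, 1, -1, 1, -1, 1, -1, -1, 1, -1, 1, -1, 1, -1, -1, -1, 1, -1, 1, 1, -1, 1, -1, -1, -1, 1, 1, -1, -1, -1, 1, -1, 1,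 1, 1, -1, -1, 1, 1, 1, -1, 1, 1, -1, -1, -1, 1, 1, 1, 1, 1, -1, -1, 1, 1, 1, -1, -1, -1, -1, 1, 1, 1, 1, 1, -1, -1, -1, -1, -1, -1, -1, 1, -1, -1, 1, 1, 1, -1, -1, -1, -1, 1, 1, 1, 1, 1, -1, -1, -1, -1, -1, -1, -1, -1, -1, -1, -1, -1, -1, -1, -1, -1, -1, -1, -1, -1, -1, -1, -1, -1, -1, -1, -1, -1, -1, -1, -1, -1, -1, -1, -1, -1, -1, -1, -1, -1, -1, -1, -1, -1, -1, -1, -1, -1, -1, -1, -1, -1, -1, -1, 1, 1, 1, 1, 1, -1, -1, -1, -1, 1, 1, 1, -1, -1, 1, -1, -1, -1, -1, -1, -1, -1, 1, 1, 1, 1, 1, -1, -1, -1, -1, 1, 1, 1, -1, -1, 1, 1, 1, 1, 1, -1, -1, -1, 1, 1, -1, 1, 1, 1, -1, -1, 1, 1, 1, -1, 1, -1, -1, -1, 1, 1, -1, -1, -1, 1, -1, 1, 1, -1, 1, -1, -1, -1, 1, -1, 1, -1, 1, -1, -1, 1, -1, 1, -1, 1, 1, 1, 1, 1, 1, 1, 1]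
  decide +kernel

end Cfsg.Agent.Chev
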