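import Cfsg.Agent.Chev.Tab.F4
import Cfsg.Agent.Chev.Rel6

/-! Auxiliary packed tables for type F4 (generated by tools/gen_all.py). -/

set_option autoImplicit false
set_option maxRecDepth 1000000

namespace Cfsg.Agent.Chev
open Cfsg.Lie

def tWF4 : ℕ := 0x2e2f2d2c2b292a2827252623242221201e1f1c1d1b191a1718151614121310110f0e0d0b0c090a0807050604030200012f2d2e2c2a2b2928262725242223211f201e1d1b1c18161a151917131412110f100e0c0d0b0a080907060405030102002f2e2b2c2d2a292728242326252122201a191d1c141f1e181711101b131216150f0d0e0a090c0b0708060502030401002f2e2d28201f1e2c2726251d1c1b0e2b2a292423221a19181716150d0c0b060504211413120a09080311100f07020100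
def tEtaF4 : ℕ := 0x8450a5a50a21488913c891121164fe7f26881ee3f81fc778
def tPF4 : ℕ := 0xa999998999898889989889897878878778887877787777769a999899989898898989889797887878788787877787776799a989998998898899889778899788778878877877787677aaaaaaa999999998888888888888888887777777766666669989a998988998987788799887798899878778878776787798999a988989899787878879798898989778787887677787899999a88898999778788787989889899777878886777778aaa9888a9998887aaa999888888777666988877768887666aa89a889a889978a88997aa8866977886897788678867866a8a98a898a897988a897986a6a87978688797868786876868aa988a988a799888a799686a8a779688877968876887668a889aa88997a889886977a8a686997a887886977886678868a89a8a89798a898687978a6a689798a878687978686786888a98aa879988a96887796688aa79988a7688779866876888889aaa7888999a666777888888999aaa677788896667888998887799888877a999989988778777769988887799888779898787989887879a998987979878776798988787989878789987789889788799a899787989778677988978878998778a88888699979777aa8a88a8a68688686699979777a8888868a8886899797977a8a8a88a6a68868686997979778a8886888a8688979977978aa88a6688aa6886689799779788a8688987898789879878987987a997769879878987987898789878978978897889789788979a796797889789788978897897897888978897978889797897a6978979788897978897888977988879887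97988879798796a798797988879798879888798798798879887987988797697a979887987988798879879878987898789789878978967799a7897898789789878987898868a8879779979866886aa8866a88aa8797799798868a8886888a87797979968686886a6a88a8a8a7797979986888a8688888a77797999668688686a8a88a8aa77797999688888a877899878879889776877989787998a997887988987789987878989787889897677878979789899a978788989787898977888997788889967777877889989999a778888997788899888766698887776aaa999888888777666a9998887aaa9888886786689778867a88997aa88669778869a889978aa89a888687686879786878a897986a6a879786898a89798a8a98a868876688779688788a799686a8a779688988a79988aa988a866788678869778886977a8a686997a888997a889a889aa86867868786879788687978a6a689798a889798a898a89a8a6687688768877986887796688aa79988a879988a988a98aa666788867778889666777888888999aaa7888999a8889aaa87777768887877799898898978788787799989888a999998787776788787877989898897978878787998989889a999897787677878877878998897788997887789899889899a989966666667777777788888888888888888899999999aaaaaaa776787778778878877887998877988998898899899989a997677787778787887878788797988989898898989998999a967777787778788877878878798988989988898999899999a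

def nauxF4 : NAux where
  w := fun i s => Nat.land (Nat.shiftRight tWF4 (Nat.mul 8 (Nat.add (Nat.mul i 48) s))) 255
  eta := fun i s => Int.subNatNat 1 (Nat.mul 2 (Nat.land (Nat.shiftRight tEtaF4 (Nat.add (Nat.mul i 48) s)) 1))

def prF4 : ℕ → ℕ → ℤ :=
  fun r s => Int.subNatNat (Nat.land (Nat.shiftRight tPF4 (Nat.mul 4 (Nat.add (Nat.mul r 48) s))) 15) 8

theorem chkAuxF4 : chkAux pkF4 nauxF4 = true := by decide +kernel
theorem chkAux2F4 : chkAux2 pkF4 nauxF4 = true := by decide +kernel
theorem chkNF4 : chkN pkF4 nauxF4 = true := by decide +kernel

end Cfsg.Agent.Chev
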