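import Cfsg.Agent.Chev.Poin3
import Cfsg.Agent.Chev.Tab.F4Root2
import Cfsg.Agent.Chev.Chk.F4Fin

/-! Orbit tables for the Weyl group of type F4 (generated by tools/gen_orb.py). -/

set_option autoImplicit false
set_option maxRecDepth 1000000

namespace Cfsg.Agent.Chev
open Cfsg.Lie

def cmF4 : ℕ → ℕ → ℤ := fun j k => (([[2, -1, 0, 0], [-1, 2, -2, 0], [0, -1, 2, -1], [0, 0, -1, 2]] : List (List ℤ)).getD j []).getD k 0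

theorem cmF4_eq : ∀ j < chevF4.rank, ∀ k < chevF4.rank, chevF4.cartan j (chevF4.simple k) = cmF4 j k := by
  decide +kernel

def orbF4_0 : List OEnt := [
  ⟨[1, 0, 0, 0], 0, 0, [1, 0, 0, 0]⟩,
  ⟨[-1, 1, 0, 0], 1, 0, [0, 2, 1, 1]⟩,
  ⟨[0, -1, 2, 0], 2, 1, [2, 1, 3, 2]⟩,
  ⟨[0, 1, -2, 2], 3, 2, [3, 4, 2, 5]⟩,
  ⟨[1, -1, 0, 2], 4, 1, [6, 3, 4, 7]⟩,
  ⟨[0, 1, 0, -2], 4, 3, [5, 7, 5, 3]⟩,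
  ⟨[-1, 0, 0, 2], 5, 0, [4, 6, 6, 8]⟩,
  ⟨[1, -1, 2, -2], 5, 3, [8, 5, 9, 4]⟩,
  ⟨[-1, 0, 2, -2], 6, 3, [7, 8, 10, 6]⟩,
  ⟨[1, 1, -2, 0], 6, 2, [10, 11, 7, 9]⟩,
  ⟨[-1, 2, -2, 0], 7, 2, [9, 12, 8, 10]⟩,
  ⟨[2, -1, 0, 0], 7, 1, [13, 9, 11, 11]⟩,
  ⟨[1, -2, 2, 0], 8, 1, [14, 10, 15, 12]⟩,
  ⟨[-2, 1, 0, 0], 8, 0, [11, 14, 13, 13]⟩,
  ⟨[-1, -1, 2, 0], 9, 0, [12, 13, 16, 14]⟩,
  ⟨[1, 0, -2, 2], 9, 2, [16, 15, 12, 17]⟩,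
  ⟨[-1, 1, -2, 2], 10, 2, [15, 18, 14, 19]⟩,
  ⟨[1, 0, 0, -2], 10, 3, [19, 17, 17, 15]⟩,
  ⟨[0, -1, 0, 2], 11, 1, [18, 16, 18, 20]⟩,
  ⟨[-1, 1, 0, -2], 11, 3, [17, 20, 19, 16]⟩,
  ⟨[0, -1, 2, -2], 12, 3, [20, 19, 21, 18]⟩,
  ⟨[0, 1, -2, 0], 13, 2, [21, 22, 20, 21]⟩,
  ⟨[1, -1, 0, 0], 14, 1, [23, 21, 22, 22]⟩,
  ⟨[-1, 0, 0, 0], 15, 0, [22, 23, 23, 23]⟩]

theorem orbF4_0_ok : chkOrb 4 cmF4 [] 0 orbF4_0 = true := by decide +kernel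

def orbF4_1 : List OEnt := [
  ⟨[0, 0, 0, 1], 0, 0, [0, 0, 0, 1]⟩,
  ⟨[0, 0, 1, -1], 1, 3, [0, 1, 2, 0]⟩,
  ⟨[0, 1, -1, 0], 2, 2, [0, 3, 1, 2]⟩,
  ⟨[1, -1, 1, 0], 3, 1, [0, 2, 4, 3]⟩,
  ⟨[1, 0, -1, 1], 4, 2, [0, 4, 3, 5]⟩,
  ⟨[1, 0, 0, -1], 5, 3, [0, 5, 5, 4]⟩]

theorem orbF4_1_ok : chkOrb 4 cmF4 [0] 3 orbF4_1 = true := by decide +kernel

def orbF4_2 : List OEnt := [
  ⟨[0, 1, 0, 0], 0, 0, [0, 1, 0, 0]⟩,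
  ⟨[1, -1, 2, 0], 1, 1, [0, 0, 2, 0]⟩,
  ⟨[1, 1, -2, 2], 2, 2, [0, 3, 1, 0]⟩,
  ⟨[2, -1, 0, 2], 3, 1, [0, 2, 3, 0]⟩]

theorem orbF4_2_ok : chkOrb 4 cmF4 [3, 0] 1 orbF4_2 = true := by decide +kernel

def orbF4_3 : List OEnt := [
  ⟨[0, 0, 1, 0], 0, 0, [0, 0, 1, 0]⟩,
  ⟨[0, 1, -1, 1], 1, 2, [0, 0, 0, 0]⟩]

theorem orbF4_3_ok : chkOrb 4 cmF4 [1, 3, 0] 2 orbF4_3 = true := by decide +kernel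

theorem psumF4 (q : ℕ) : goodF4.psum goodF4.W q = (orbF4_0.map fun e => q ^ e.d).sum * ((orbF4_1.map fun e => q ^ e.d).sum * ((orbF4_2.map fun e => q ^ e.d).sum * ((orbF4_3.map fun e => q ^ e.d).sum))) := by
  have hZ : ∀ σ ∈ goodF4.W, goodF4.nn σ = 0 → σ = 1 := fun σ hσ h => (relsF4 ℚ).W_eq_one good2F4 hσ h
  rw [← goodF4.WL_nil,
    goodF4.orb_step hZ cmF4 cmF4_eq [] 0 orbF4_0 (by decide) (OrbOK.of_chk orbF4_0_ok) q,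
    goodF4.orb_step hZ cmF4 cmF4_eq [0] 3 orbF4_1 (by decide) (OrbOK.of_chk orbF4_1_ok) q,
    goodF4.orb_step hZ cmF4 cmF4_eq [3, 0] 1 orbF4_2 (by decide) (OrbOK.of_chk orbF4_2_ok) q,
    goodF4.orb_step hZ cmF4 cmF4_eq [1, 3, 0] 2 orbF4_3 (by decide) (OrbOK.of_chk orbF4_3_ok) q,
    goodF4.WL_full [2, 1, 3, 0] (by decide), goodF4.psum_bot, mul_one]

theorem polyEqF4 : lpmul (polyO orbF4_0) (lpmul (polyO orbF4_1) (lpmul (polyO orbF4_2) (lpmul (polyO orbF4_3) (lpmul (pxd 1) (lpmul (pxd 1) (lpmul (pxd 1) (pxd 1))))))) = lpmul (pxd 2) (lpmul (pxd 6) (lpmul (pxd 8) (pxd 12))) := by decide +kernel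

theorem poinF4 (q : ℕ) : ((goodF4.psum goodF4.W q : ℕ) : ℤ) * ((q : ℤ) - 1) ^ 4 = ((q : ℤ) ^ 2 - 1) * (((q : ℤ) ^ 6 - 1) * (((q : ℤ) ^ 8 - 1) * (((q : ℤ) ^ 12 - 1)))) := by
  have h := congrArg (fun p => pev p (q : ℤ)) polyEqF4
  simp only [pev_lpmul, pev_polyO, pev_pxd] at h
  rw [← h, psumF4]
  push_cast
  ring

end Cfsg.Agent.Chev
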