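import Cfsg.Agent.Chev.Perf
import Cfsg.Prelude.Def_ChevF4

/-! Every root of type F4 is a sum of two roots spanning a system of type A₂ (generated by tools/gen_perf.py). -/

set_option autoImplicit false
set_option maxRecDepth 1000000

namespace Cfsg.Agent.Chev
open Cfsg.Lie

theorem sumA2F4 : SumA2 chevF4 := by
  apply SumA2.of_chk [1, 0, 0, 7, 0, 0, 1, 3, 3, 3, 3, 3, 3, 3, 3, 0, 0, 1, 7, 7, 7, 0, 1, 0, 1, 2, 2, 8, 9, 10, 4, 4, 5, 7, 8, 9, 10, 11, 12, 13, 14, 15, 15, 16, 33, 21, 23, 24] [23, 24, 26, 14, 31, 32, 32, 33, 34, 35, 36, 37, 38, 39, 40, 42, 43, 43, 37, 38, 39, 45, 45, 46, 47, 46, 47, 40, 40, 40, 46, 47, 47, 44, 44, 44, 44, 44, 44, 44, 44, 46, 47, 47, 40, 47, 47, 46] [1, 1, 1, 1, -1, 1, 1, 1, 1, -1, 1, -1, 1, -1, -1, -1, 1, 1, -1, 1, -1, -1, -1, -1, -1, -1, -1, -1, 1, -1, 1, 1, -1, -1, -1, 1, -1, 1, -1, 1, 1, 1, 1, -1, 1, 1,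 1, 1]
  decide +kernel

end Cfsg.Agent.Chev
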