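import Cfsg.Agent.Chev.Tab.G2
import Cfsg.Agent.Chev.Rel6

/-! Auxiliary packed tables for type G2 (generated by tools/gen_all.py). -/

set_option autoImplicit false
set_option maxRecDepth 1000000

namespace Cfsg.Agent.Chev
open Cfsg.Lie

def tWG2 : ℕ := 0xa0b090708050603040200010b060809040a010702030500
def tEtaG2 : ℕ := 0x969696
def tPG2 : ℕ := 0xa999897877769a9897978767bba998877655b89a7b5967858b97a5b6975897897a697897798796a7987985796b5a79b8587695b7a98b556778899abb7678797989a967778798999a

def nauxG2 : NAux where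
  w := fun i s => Nat.land (Nat.shiftRight tWG2 (Nat.mul 8 (Nat.add (Nat.mul i 12) s))) 255
  eta := fun i s => Int.subNatNat 1 (Nat.mul 2 (Nat.land (Nat.shiftRight tEtaG2 (Nat.add (Nat.mul i 12) s)) 1))

def prG2 : ℕ → ℕ → ℤ :=
  fun r s => Int.subNatNat (Nat.land (Nat.shiftRight tPG2 (Nat.mul 4 (Nat.add (Nat.mul r 12) s))) 15) 8

theorem chkAuxG2 : chkAux pkG2 nauxG2 = true := by decide +kernel
theorem chkAux2G2 : chkAux2 pkG2 nauxG2 = true := by decide +kernel
theorem chkNG2 : chkN pkG2 nauxG2 = true := by decide +kernel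

end Cfsg.Agent.Chev
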