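import Cfsg.Agent.Chev.Tw13
import Cfsg.Agent.Chev.Tab.E6Tw
import Cfsg.Agent.Chev.Tab.D4Tw

/-! Tables for the perfectness of the twisted groups (generated by tools/gen_twp.py). -/

set_option autoImplicit false
set_option maxRecDepth 1000000
set_option synthInstance.maxSize 4000
set_option synthInstance.maxHeartbeats 400000

namespace Cfsg.Agent.Chev
open Cfsg.Lie

def twpaE6 : ℕ → ℕ := fun s => ([0, 0, 0, 0, 0, 0, 0, 0, 0, 0, 0, 0, 0, 0, 0, 0, 0, 0, 0, 0, 0, 0, 0, 0, 0, 0, 0, 0, 0, 0, 0, 0, 1, 0, 0, 0, 0, 0, 0, 2, 0, 0, 0, 0, 0, 0, 1, 0, 0, 0, 0, 0, 0, 0, 0, 0, 0, 0, 0, 0, 0, 0, 0, 0, 0, 0, 0, 0, 0, 0, 0, 0] : List ℕ).getD s 0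

def twpbE6 : ℕ → ℕ := fun s => ([0, 0, 0, 0, 0, 0, 0, 0, 0, 0, 0, 0, 0, 0, 0, 0, 0, 0, 0, 0, 0, 0, 0, 0, 0, 70, 0, 0, 0, 0, 0, 0, 69, 0, 0, 0, 0, 0, 0, 70, 0, 0, 0, 0, 0, 0, 71, 0, 0, 0, 0, 0, 0, 0, 0, 0, 0, 0, 0, 0, 0, 0, 0, 0, 0, 0, 0, 0, 0, 0, 0, 0] : List ℕ).getD s 0

theorem twpE6 : TwP chevE6 twcE6 twpaE6 twpbE6 where
  cart := by decide +kernel
  fixsum := by decide +kernel

def twpaD4 : ℕ → ℕ := fun s => ([0, 0, 0, 0, 0, 0, 0, 0, 0, 0, 0, 0, 0, 0, 1, 0, 0, 0, 0, 0, 0, 0, 0, 0] : List ℕ).getD s 0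

def twpbD4 : ℕ → ℕ := fun s => ([0, 0, 0, 0, 0, 0, 0, 0, 0, 22, 0, 0, 0, 0, 23, 0, 0, 0, 0, 0, 0, 0, 0, 0] : List ℕ).getD s 0

theorem twpD4 : TwP chevD4 twcD4 twpaD4 twpbD4 where
  cart := by decide +kernel
  fixsum := by decide +kernel

end Cfsg.Agent.Chev
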